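import Cfsg.Agent.H47.TwoU62.Far

/-!
A transposition with centraliser `2.U6(2)`: its class is a class of 3-transpositions generating the
group, with the geometry of type M(22).
-/

set_option autoImplicit false

namespace Cfsg.Agent.H47.TwoU62

open Cfsg.Agent.H93

variable {G : Type*} [Group G] [Finite G] {K : Type*} [Field K] [Fintype K] {d : G}

/-- members that do not commute have product of order three -/
theorem Hyp.cube (h : Hyp K d) {x y : G} (hx : x ∈ conjugatesOf d) (hy : y ∈ conjugatesOf d)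
    (hn : ¬ Commute x y) : (x * y) ^ 3 = 1 := by
  obtain ⟨hX, hDX⟩ := h.of_mem hx
  obtain ⟨z, hz, hxz, hzy⟩ := hX.common_exists (hDX.symm ▸ hy) hn
  obtain ⟨hZ, hDZ⟩ := hX.of_mem hz
  obtain ⟨F⟩ := hZ.frame
  have hD : conjugatesOf z = conjugatesOf d := hDZ.trans hDX
  obtain ⟨u, hu, eu⟩ := F.nb_surj (y := x) ⟨hD.symm ▸ hx, fun e => hn (e ▸ hzy), hxz.symm⟩
  obtain ⟨v, hv, ev⟩ := F.nb_surj (y := y) ⟨hD.symm ▸ hy, fun e => hn (e ▸ hxz), hzy⟩
  subst eu ev
  have hne : hb u v ≠ 0 := fun e => hn ((F.m_comm hu hv).mpr e)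
  have e1 : u + hb u v • v = hb u v • (v + hb v u • u) := by
    rw [smul_add, smul_smul, hb_conj h.hK u v, show hb u v * hb u v ^ 2 = 1 by
      linear_combination Cfsg.Agent.H93.pow_three h.hK hne, one_smul, add_comm]
  have hbr : F.m u * F.m v * F.m u = F.m v * F.m u * F.m v := by
    rw [F.third hu hv, F.third hv hu, e1, (F.m_smul (isPt_third h.hK hu hv) hne).2]
  calc (F.m u * F.m v) ^ 3 = (F.m u * F.m v * F.m u) * (F.m v * F.m u * F.m v) := by
        simp only [pow_succ, pow_zero, one_mul, mul_assoc]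
    _ = (F.m v * F.m u * F.m v) * (F.m v * F.m u * F.m v) := by rw [hbr]
    _ = F.m v * (F.m u * (F.m v * F.m v) * F.m u) * F.m v := by group
    _ = 1 := by rw [F.m_sq hv, mul_one, F.m_sq hu, mul_one, F.m_sq hv]

theorem Hyp.tt (h : Hyp K d) : TT (conjugatesOf d) where
  sq a ha := sq_of_conj h.dd ha
  pair a ha b hb := by
    by_cases hc : Commute a b
    · left; rw [pow_two]; exact sq_mul_of_comm (sq_of_conj h.dd ha) (sq_of_conj h.dd hb) hc
    · exact Or.inr (h.cube ha hb hc)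
  conj_mem g _ ha := mem_D_conj g ha

theorem Hyp.nodom (h : Hyp K d) {a b : G} (ha : a ∈ conjugatesOf d) (hb : b ∈ nb (conjugatesOf d) a) :
    ∃ v ∈ nb (conjugatesOf d) a, ¬ Commute v b := by
  obtain ⟨hA, hDA⟩ := h.of_mem ha
  obtain ⟨F⟩ := hA.frame
  rw [← hDA] at hb ⊢
  obtain ⟨v, hv, rfl⟩ := F.nb_surj hb
  obtain ⟨w, hw, hwv⟩ := iso_one h.hK hv.1 1
  have hwp := pt_of_hb_eq_one hw hwv
  refine ⟨F.m w, F.m_nb hwp, fun e => ?_⟩
  have := (F.m_comm hwp hv).mp e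
  rw [hwv] at this
  exact one_ne_zero this

theorem Hyp.exists_eleven (h : Hyp K d) : ∃ g : G, g ≠ 1 ∧ g ^ 11 = 1 := by
  obtain ⟨F⟩ := h.frame
  obtain ⟨r, hr1, hr⟩ := psu_eleven (F := K) h.hK
  obtain ⟨g, hg⟩ := F.cls.ext.surj r
  refine ⟨((g * g : ↥(Cz d)) : G), fun e => hr1 ?_, ?_⟩
  · have h1 : r * r = 1 := by rw [← hg, ← map_mul, show g * g = 1 from Subtype.ext e, map_one]
    calc r = r ^ 11 * ((r * r) ^ 5)⁻¹ := by
          rw [← pow_two, ← pow_mul]; group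
      _ = 1 := by rw [hr, h1, one_pow, inv_one, one_mul]
  · have h2 : (g * g) ^ 11 = 1 := by
      rw [(Commute.refl g).mul_pow 11]
      exact F.cls.ext.two_values (by rw [map_pow, hg, hr])
    have := congrArg Subtype.val h2
    simpa using this

theorem Hyp.core (h : Hyp K d) : Core (conjugatesOf d) where
  tt := h.tt
  ne_one a ha e := by
    obtain ⟨g, rfl⟩ := isConj_iff.mp ha
    exact (h.conj g).d1 e
  cls a ha b hb := IsConj.trans (IsConj.symm ha) hb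
  nodom _ ha _ hb := h.nodom ha hb
  edge a ha := by
    obtain ⟨hA, hDA⟩ := h.of_mem ha
    obtain ⟨F⟩ := hA.frame
    obtain ⟨u, hu⟩ := exists_pt (F := K) h.hK
    exact ⟨F.m u, hDA ▸ F.m_nb hu⟩
  eleven := h.exists_eleven

theorem Hyp.eq_one_of_cen (h : Hyp K d) {k : G} (hk : ∀ t ∈ conjugatesOf d, Commute k t) : k = 1 := by
  obtain ⟨F⟩ := h.frame
  have hd0 : d ∈ conjugatesOf d := mem_conjugatesOf_self
  have hkC : k ∈ Cz d := mem_cent (hk d hd0).symm
  have hle : Subgroup.closure {t | ∃ v : Vec K, IsPt v ∧ t = ptv h.hK v} ≤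
      Subgroup.centralizer ({F.π ⟨k, hkC⟩} : Set _) := by
    rw [Subgroup.closure_le]
    rintro _ ⟨v, hv, rfl⟩
    rw [← F.π_m hv]
    exact mem_cent (Commute.map (Subtype.ext (hk _ (F.m_mem hv)).eq :
      Commute (⟨k, hkC⟩ : ↥(Cz d)) ⟨F.m v, F.mem_cz v⟩) F.π)
  have hcen : F.π ⟨k, hkC⟩ ∈ Subgroup.center (Cfsg.PSU 6 K 2) := Subgroup.mem_center_iff.mpr fun x =>
    (Subgroup.mem_centralizer_singleton_iff.mp (hle (ptv_generate h.hK x)))
  rw [(psu_six_center h.hK).2, Subgroup.mem_bot] at hcen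
  rcases F.cls.ext.ker _ hcen with e | e
  · exact congrArg Subtype.val e
  · exfalso
    obtain ⟨u, hu⟩ := exists_pt (F := K) h.hK
    obtain ⟨v, hv, hvd⟩ := h.nodom (F.m_mem hu) (nb_symm hd0 (F.m_nb hu))
    have ek : k = d := congrArg Subtype.val e
    exact hvd (ek ▸ (hk v hv.1).symm)

/-- the geometry of type M(22) -/
theorem Hyp.geo (h : Hyp K d) : Geo22 (conjugatesOf d) K where
  hK := h.hK
  core := h.core
  cen _ hk := h.eq_one_of_cen hk
  cent a ha := by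
    obtain ⟨hA, hDA⟩ := h.of_mem ha
    rw [← hDA]; exact hA.cent_eq
  ext _ ha := (h.of_mem ha).1.ext
  far a ha b hb hn := by
    obtain ⟨hA, hDA⟩ := h.of_mem ha
    obtain ⟨z, hz, haz, hzb⟩ := hA.common_exists (hDA.symm ▸ hb) hn
    exact ⟨z, ⟨hDA ▸ hz, fun e => hn (e ▸ hzb), haz⟩, ⟨hDA ▸ hz, fun e => hn (e ▸ haz), hzb.symm⟩⟩

/-- adjacent members are conjugate in the subgroup generated by the class -/
theorem Hyp.adj_conj (h : Hyp K d) {b c : G} (hbc : Adj d b c) :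
    ∃ g ∈ Subgroup.closure (conjugatesOf d), g * b * g⁻¹ = c := by
  obtain ⟨hb', hc', hcom⟩ := hbc
  by_cases e : b = c
  · exact ⟨1, one_mem _, by rw [e]; group⟩
  obtain ⟨hB, hDB⟩ := h.of_mem hb'
  obtain ⟨F⟩ := hB.frame
  obtain ⟨v, hv, rfl⟩ := F.nb_surj ⟨hDB.symm ▸ hc', Ne.symm e, hcom⟩
  obtain ⟨w, hw, hvw, hs⟩ := exists_orth_pt h.hK hv
  have hf : F.m w ∈ conjugatesOf d := hDB ▸ F.m_mem hw
  obtain ⟨hF, hDF⟩ := h.of_mem hf
  obtain ⟨F'⟩ := hF.frame
  obtain ⟨p1, hp1, e1⟩ := F'.nb_surj (y := b) ⟨hDF.symm ▸ hb', (F.m_ne hw).1.symm, (F.comm_d w).symm⟩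
  obtain ⟨p2, hp2, e2⟩ := F'.nb_surj (y := F.m v) ⟨hDF.symm ▸ hc',
    fun q => hs ((F.m_eq hv hw).mp q), ((F.m_comm hv hw).mpr hvw).symm⟩
  obtain ⟨k, hk⟩ := F'.trans hp1 hp2
  refine ⟨(k : G), ?_, ?_⟩
  · have hk' : (k : G) ∈ nbSub (conjugatesOf (F.m w)) (F.m w) := hF.cent_eq ▸ k.2
    rw [hDF] at hk'
    exact Subgroup.closure_mono (fun t (ht : t ∈ nb (conjugatesOf d) (F.m w)) => ht.1) hk'
  · rw [e2, ← hk, ← e1]

theorem Hyp.closure_eq_top (h : Hyp K d) : Subgroup.closure (conjugatesOf d) = ⊤ := by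
  rw [eq_top_iff]
  intro g _
  have hd0 : d ∈ conjugatesOf d := mem_conjugatesOf_self
  obtain ⟨k, hk, ek⟩ : ∃ k ∈ Subgroup.closure (conjugatesOf d), k * d * k⁻¹ = g * d * g⁻¹ := by
    have hc := h.connected (mem_D_conj g hd0)
    generalize g * d * g⁻¹ = x at hc ⊢
    induction hc with
    | refl => exact ⟨1, one_mem _, by group⟩
    | @tail b c _ hbc ih =>
      obtain ⟨k, hk, rfl⟩ := ih
      obtain ⟨m, hm, em⟩ := h.adj_conj hbc
      exact ⟨m * k, mul_mem hm hk, by rw [← em]; group⟩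
  have hC : k⁻¹ * g ∈ Subgroup.closure (conjugatesOf d) := by
    have hmem : k⁻¹ * g ∈ Cz d := mem_cent (by
      refine (mul_inv_eq_iff_eq_mul.mp ?_ : Commute (k⁻¹ * g) d).symm
      calc k⁻¹ * g * d * (k⁻¹ * g)⁻¹ = k⁻¹ * (g * d * g⁻¹) * k := by group
        _ = d := by rw [← ek]; group)
    rw [h.cent_eq] at hmem
    exact Subgroup.closure_mono (fun t (ht : t ∈ nb (conjugatesOf d) d) => ht.1) hmem
  simpa using mul_mem hk hC

theorem Hyp.tt_class (h : Hyp K d) : Cfsg.IsThreeTranspositionClass (conjugatesOf d) := by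
  refine ⟨⟨fun a ha => ?_, h.tt.pair⟩, ⟨d, mem_conjugatesOf_self, rfl⟩, h.closure_eq_top⟩
  exact orderOf_eq_prime (by rw [pow_two]; exact sq_of_conj h.dd ha) (h.core.ne_one a ha)

/-- the hypothesis from the printed form -/
theorem Hyp.of_quotient (hd : orderOf d = 2) (hperf : commutator ↥(Cz d) = ⊤)
    [((Subgroup.zpowers d).subgroupOf (Cz d)).Normal] (hK : Fintype.card K = 4)
    (e : ↥(Cz d) ⧸ (Subgroup.zpowers d).subgroupOf (Cz d) ≃* Cfsg.PSU 6 K 2)
    (hnwc : ∃ g : G, g * d * g⁻¹ ∈ Cz d ∧ g * d * g⁻¹ ≠ d) : Hyp K d where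
  hK := hK
  d1 q := by rw [q, orderOf_one] at hd; norm_num at hd
  perf := hperf
  two := by
    obtain ⟨g, hg, hne⟩ := hnwc
    exact ⟨g, comm_of_mem hg, hne⟩
  ext := by
    have h2 : d * d = 1 := by rw [← pow_two, ← hd, pow_orderOf_eq_one]
    refine ⟨e.toMonoidHom.comp (QuotientGroup.mk' _), e.surjective.comp (QuotientGroup.mk'_surjective _),
      fun x hx => ?_, Subtype.ext h2, fun x => Subtype.ext (comm_of_mem x.2).eq⟩
    have h1 : (x : G) ∈ Subgroup.zpowers d := by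
      have : QuotientGroup.mk' ((Subgroup.zpowers d).subgroupOf (Cz d)) x = 1 :=
        e.injective (hx.trans (map_one e).symm)
      exact (QuotientGroup.eq_one_iff x).mp this
    obtain ⟨i, hi⟩ := Subgroup.mem_zpowers_iff.mp h1
    rcases Int.even_or_odd i with ⟨m, rfl⟩ | ⟨m, rfl⟩
    · left
      refine Subtype.ext (hi.symm.trans ?_)
      rw [← two_mul, zpow_mul, zpow_two, h2, one_zpow]; rfl
    · right
      refine Subtype.ext (hi.symm.trans ?_)
      rw [zpow_add, zpow_one, zpow_mul, zpow_two, h2, one_zpow, one_mul]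

end Cfsg.Agent.H47.TwoU62
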