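import Cfsg.Agent.H47.TwoU62.Pairs

/-!
The members centralising an involution lie in one component of the commuting graph, and the graph is
connected.
-/

set_option autoImplicit false

namespace Cfsg.Agent.H47.TwoU62

open Cfsg.Agent.H93

variable {G : Type*} [Group G] [Finite G] {K : Type*} [Field K] [Fintype K] {d : G} {h : Hyp K d}

/-- two commuting members -/
def Adj (d x y : G) : Prop := x ∈ conjugatesOf d ∧ y ∈ conjugatesOf d ∧ Commute x y

/-- the same component of the commuting graph -/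
def Conn (d : G) : G → G → Prop := Relation.ReflTransGen (Adj d)

omit [Finite G] in
theorem Conn.of_comm {x y : G} (hx : x ∈ conjugatesOf d) (hy : y ∈ conjugatesOf d) (hc : Commute x y) :
    Conn d x y := Relation.ReflTransGen.single ⟨hx, hy, hc⟩

omit [Finite G] in
theorem Conn.symm {x y : G} (hc : Conn d x y) : Conn d y x := by
  induction hc with
  | refl => exact Relation.ReflTransGen.refl
  | tail _ hbc ih => exact Relation.ReflTransGen.head ⟨hbc.2.1, hbc.1, hbc.2.2.symm⟩ ih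

omit [Finite G] in
theorem IsPair.conj {v : G} (hv : IsPair d v) (g : G) : IsPair d (g * v * g⁻¹) := by
  obtain ⟨a, ha, b, hb, hne, hc, rfl⟩ := hv
  exact ⟨_, mem_D_conj g ha, _, mem_D_conj g hb,
    fun e => hne (mul_left_cancel (mul_right_cancel e)), commute_conj.mpr hc, by group⟩

omit [Finite G] in
theorem IsPair.congr {a v : G} (e : conjugatesOf a = conjugatesOf d) : IsPair a v ↔ IsPair d v := by
  simp only [IsPair, e]

/-- the members centralising an involution of a plane subgroup are connected to the centre -/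
theorem Frame.cent_conn (F : Frame h) {P Q : Fin 3 → Vec K} (p : Plane P Q) {v : G}
    (hv : v ∈ F.pl p) (hv1 : v ≠ 1) {x : G} (hx : x ∈ conjugatesOf d) (hxv : Commute v x) :
    Conn d d x := by
  by_contra hcon
  have hd0 : d ∈ conjugatesOf d := mem_conjugatesOf_self
  have viaD : ∀ f ∈ conjugatesOf d, Commute d f → Commute f x → False := fun f hf hdf hfx =>
    hcon ((Conn.of_comm hd0 hf hdf).trans (Conn.of_comm hf hx hfx))
  -- all members centralising both fall into one class of the centraliser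
  have inv : ∀ f ∈ conjugatesOf d, Commute d f → Commute f v → ∀ f' ∈ conjugatesOf d,
      Commute d f' → Commute f' v → IsPair d (v * f) → IsPair d (v * f') := by
    intro f hf hdf hfv f' hf' hdf' hfv' hP
    obtain ⟨c, hc, hcc⟩ := h.conj_in hf hx (fun q => viaD f hf hdf q)
    obtain ⟨c', hc', hcc'⟩ := h.conj_in hf' hx (fun q => viaD f' hf' hdf' q)
    have e1 := hcc v hfv hxv.symm
    have e2 := hcc' v hfv' hxv.symm
    have e : c'⁻¹ * c * (v * f) * (c'⁻¹ * c)⁻¹ = v * f' := by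
      calc c'⁻¹ * c * (v * f) * (c'⁻¹ * c)⁻¹
          = c'⁻¹ * c * v * (c'⁻¹ * c)⁻¹ * (c'⁻¹ * (c * f * c⁻¹) * c') := by group
        _ = v * f' := by
          rw [hc, ((e2.inv_left).mul_left e1).eq, mul_inv_cancel_right, ← hc']
          group
    exact e ▸ hP.conj _
  obtain ⟨hvC, hv'⟩ := (F.mem_pl p).mp hv
  have hc := (F.pl_elem p).1
  have hdv : Commute d v := comm_of_mem hvC
  have hk := hv'
  rw [← SetLike.mem_coe, F.cls.kinds_eq h.hK p] at hk
  have notPair : ¬ IsPair d v := by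
    intro hP
    obtain ⟨a, ha, b, hb, hab, cab, e⟩ := hP
    obtain ⟨hxa, -⟩ := h.pair_cent ha hb hx hab cab (e ▸ hxv.symm)
    obtain ⟨hda, -⟩ := h.pair_cent ha hb hd0 hab cab (e ▸ hdv)
    exact viaD a ha hda hxa.symm
  have notD : v ∉ conjugatesOf d := fun hD => viaD v hD hdv hxv
  have hpair : ∀ {u w : Vec K}, IsPt u → IsPt w → hb u w = 0 → ¬ SamePt u w →
      IsPair d ((F.Y u * F.Y w : ↥(Cz d)) : G) := fun hu hw huw hs =>
    ⟨_, F.m_mem hu, _, F.m_mem hw, fun e => hs ((F.m_eq hu hw).mp e), (F.m_comm hu hw).mpr huw,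
      F.m_mul_m _ _⟩
  rcases hk with ((((hk | hk) | hk) | hk) | hk) | hk
  · rcases hk with hk | hk
    · exact hv1 (congrArg Subtype.val hk)
    · exact notD ((show d = v from (congrArg Subtype.val hk).symm) ▸ hd0)
  · obtain ⟨u, hu, -, e⟩ := hk
    exact notPair ⟨d, hd0, F.m u, F.m_mem hu, (F.m_ne hu).1.symm, F.comm_d u,
      (F.d_mul_m u).trans (congrArg Subtype.val e.symm)⟩
  · obtain ⟨_, ⟨u, hu, -, rfl⟩, e⟩ := hk
    exact notD ((show F.m u = v from congrArg Subtype.val e) ▸ F.m_mem hu)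
  · obtain ⟨u, w, hu, hw, hum, hwm, hs, e⟩ := hk
    exact notPair ((show ((F.Y u * F.Y w : ↥(Cz d)) : G) = v from congrArg Subtype.val e.symm) ▸
      hpair hu hw (p.hb_plane h.hK hum hwm) hs)
  · -- a pair times the centre
    obtain ⟨_, ⟨u, w, hu, hw, hum, hwm, hs, rfl⟩, e⟩ := hk
    have huw := p.hb_plane h.hK hum hwm
    obtain ⟨R, S, r, r0, r1⟩ := exists_plane_pair h.hK hu hw huw hs
    have ev : v = (F.Y u : G) * (F.Y w : G) * d := congrArg Subtype.val e.symm
    have h1 : IsPair d (v * d) := by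
      rw [ev, mul_assoc, h.dd, mul_one]; exact hpair hu hw huw hs
    have hvR : v ∈ F.pl r := by
      have hY : ∀ i, (F.Y (R i) : G) ∈ F.pl r := fun i =>
        ⟨_, F.cls.Y_mem h.hK r (r.pt i) (Submodule.subset_span ⟨i, rfl⟩), rfl⟩
      rw [ev]
      exact mul_mem (mul_mem (r0 ▸ hY 0) (r1 ▸ hY 1)) (F.d_pl r)
    have hm2 : F.m (R 2) ∈ F.pl r := F.m_pl r (r.pt 2) (Submodule.subset_span ⟨2, rfl⟩)
    have h2 := inv d hd0 (Commute.refl d) hdv (F.m (R 2)) (F.m_mem (r.pt 2)) (F.comm_d _)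
      ((F.pl_elem r).1 _ hm2 _ hvR) h1
    have e3 : v * F.m (R 2) = ((tri F.Y R : ↥(Cz d)) : G) := by
      calc v * F.m (R 2) = (F.Y u : G) * (F.Y w : G) * (d * F.m (R 2)) := by rw [ev]; group
        _ = _ := by rw [F.d_mul_m, tri, r0, r1]; rfl
    rw [e3] at h2
    exact F.tri_not_pair r r (fun i => Submodule.subset_span ⟨i, rfl⟩) rfl (e3 ▸ mul_mem hvR hm2) h2
  · -- three independent points
    obtain ⟨R, S, r, hR, ek⟩ := hk
    have hpi : F.π (⟨v, hvC⟩ * dc d) = F.π (tri F.Y R) := by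
      rcases ek with e | e <;> simp [e, F.cls.ext.π_d h.hK]
    obtain ⟨k, ek'⟩ := F.cls.tris_conj h.hK h.perf (x := tri F.Y R * dc d) (y := ⟨v, hvC⟩)
      (P := P) ⟨R, S, r, hR, Or.inr rfl⟩ ⟨R, S, r, hR, ek⟩
    set f := (k : G) * F.m (R 0) * (k : G)⁻¹ with hf
    have hfD : f ∈ conjugatesOf d := mem_D_conj _ (F.m_mem (r.pt 0))
    have hdf : Commute d f := comm_of_mem
      (mul_mem (mul_mem k.2 (F.mem_cz _)) (inv_mem k.2))
    have ev : v = (k : G) * ((tri F.Y R : ↥(Cz d)) : G) * d * (k : G)⁻¹ := by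
      have := congrArg Subtype.val ek'
      simp only [Subgroup.coe_mul, Subgroup.coe_inv] at this
      rw [← this]; group
    have hm0 : ∀ i, F.m (R i) ∈ F.pl p := fun i => F.m_pl p (r.pt i) (hR i)
    have hYp : ∀ i, (F.Y (R i) : G) ∈ F.pl p := fun i => ⟨_, F.cls.Y_mem h.hK p (r.pt i) (hR i), rfl⟩
    have hT : ((tri F.Y R : ↥(Cz d)) : G) * d ∈ F.pl p :=
      mul_mem (mul_mem (mul_mem (hYp 0) (hYp 1)) (hYp 2)) (F.d_pl p)
    have hfv : Commute f v := by
      rw [ev, mul_assoc (k : G) _ d]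
      exact commute_conj.mpr (hc _ (hm0 0) _ hT)
    have eT : ((tri F.Y R : ↥(Cz d)) : G) * d * F.m (R 0) = ((F.Y (R 1) * F.Y (R 2) : ↥(Cz d)) : G) := by
      have c12 : Commute (F.Y (R 0) : G) (((F.Y (R 1) * F.Y (R 2) : ↥(Cz d)) : G)) :=
        hc _ (hYp 0) _ (mul_mem (hYp 1) (hYp 2))
      rw [mul_assoc, F.d_mul_m, show ((tri F.Y R : ↥(Cz d)) : G) = (F.Y (R 0) : G) *
        ((F.Y (R 1) * F.Y (R 2) : ↥(Cz d)) : G) by simp [tri, mul_assoc], c12.eq, mul_assoc,
        show (F.Y (R 0) : G) * (F.Y (R 0) : G) = 1 from congrArg Subtype.val (F.cls.sq h.hK (r.pt 0)),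
        mul_one]
    have h1 : IsPair d (v * f) := by
      have e : v * f = (k : G) * (((tri F.Y R : ↥(Cz d)) : G) * d * F.m (R 0)) * (k : G)⁻¹ := by
        rw [ev, hf]; group
      rw [e, eT]
      exact (hpair (r.pt 1) (r.pt 2) (r.orth 1 2) (r.not_same (by decide))).conj _
    have h2 := inv f hfD hdf hfv d hd0 (Commute.refl d) hdv h1
    exact F.tri_not_pair p r hR (x := ⟨v, hvC⟩ * dc d) hpi (mul_mem hv (F.d_pl p)) h2

/-- every involution centralises a member -/
theorem Hyp.exists_cent (h : Hyp K d) {v : G} (hv : v * v = 1) :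
    ∃ f ∈ conjugatesOf d, Commute v f := by
  obtain ⟨F⟩ := h.frame
  obtain ⟨P, Q, p⟩ := exists_plane (F := K) h.hK
  obtain ⟨g, hg⟩ := F.two_group_conj p (twoGroup_zpowers hv)
  obtain ⟨f, ⟨-, hfD⟩, hcf⟩ := F.fixes_member p (hg v (Subgroup.mem_zpowers v))
    (by rw [show g * v * g⁻¹ * (g * v * g⁻¹) = g * (v * v) * g⁻¹ by group, hv, mul_one, mul_inv_cancel])
  refine ⟨g⁻¹ * f * g, by simpa using mem_D_conj g⁻¹ hfD, ?_⟩
  rw [← commute_conj (g := g), show g * (g⁻¹ * f * g) * g⁻¹ = f by group]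
  exact hcf

/-- the members centralising an involution are connected -/
theorem Hyp.cent_conn (h : Hyp K d) {v x y : G} (hv : v * v = 1) (hv1 : v ≠ 1)
    (hx : x ∈ conjugatesOf d) (hy : y ∈ conjugatesOf d) (hvx : Commute v x) (hvy : Commute v y) :
    Conn d x y := by
  obtain ⟨f, hf, hvf⟩ := h.exists_cent hv
  obtain ⟨hA, hDA⟩ := h.of_mem hf
  obtain ⟨F⟩ := hA.frame
  obtain ⟨P, Q, p⟩ := exists_plane (F := K) hA.hK
  obtain ⟨k, hk⟩ := F.cls.conj_into hA.hK p (y := (⟨v, mem_cent hvf.symm⟩ : ↥(Cz f))) (Subtype.ext hv)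
  have hk1 : (k : G) * v * (k : G)⁻¹ ≠ 1 := fun e => hv1 (by
    calc v = (k : G)⁻¹ * ((k : G) * v * (k : G)⁻¹) * (k : G) := by group
      _ = 1 := by rw [e]; group)
  have key : ∀ z ∈ conjugatesOf d, Commute v z → Conn d f z := by
    intro z hz hvz
    have hc := F.cent_conn p (⟨_, hk, rfl⟩ : (k : G) * v * (k : G)⁻¹ ∈ F.pl p) hk1
      (hDA.symm ▸ mem_D_conj (k : G) hz) (commute_conj.mpr hvz)
    have hA' : Adj f = Adj d := by
      funext a b; simp only [Adj, hDA]
    rw [Conn, hA'] at hc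
    have := Relation.ReflTransGen.lift (fun t => (k : G)⁻¹ * t * (k : G))
      (p := Adj d) (fun a b hab => ⟨by simpa using mem_D_conj (k : G)⁻¹ hab.1,
        by simpa using mem_D_conj (k : G)⁻¹ hab.2.1,
        by simpa using (commute_conj (g := (k : G)⁻¹)).mpr hab.2.2⟩) _ _ hc
    simp only [Function.onFun] at this
    rwa [show (k : G)⁻¹ * f * (k : G) = f by rw [mul_assoc, (comm_of_mem k.2).eq]; group,
      show (k : G)⁻¹ * ((k : G) * z * (k : G)⁻¹) * (k : G) = z by group] at this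
  exact (key x hx hvx).symm.trans (key y hy hvy)

/-- the commuting graph is connected -/
theorem Hyp.connected (h : Hyp K d) {x : G} (hx : x ∈ conjugatesOf d) : Conn d d x := by
  by_contra hcon
  have hd0 : d ∈ conjugatesOf d := mem_conjugatesOf_self
  obtain ⟨hX, hDX⟩ := h.of_mem hx
  obtain ⟨FX⟩ := hX.frame
  obtain ⟨w, hw⟩ := exists_pt (F := K) h.hK
  set y := FX.m w
  have hy : y ∈ conjugatesOf d := hDX ▸ FX.m_mem hw
  have hxy : x ≠ y := (FX.m_ne hw).1.symm
  have cxy : Commute x y := FX.comm_d w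
  have hP : IsPair d (x * y) := ⟨x, hx, y, hy, hxy, cxy, rfl⟩
  obtain ⟨hu2, hu1, huD⟩ := hP.facts h
  obtain ⟨m, hm⟩ : ∃ m, orderOf (d * (x * y)) = 2 * m := by
    rcases Nat.even_or_odd (orderOf (d * (x * y))) with ⟨m, hm⟩ | ⟨j, hj⟩
    · exact ⟨m, by rw [hm, two_mul]⟩
    · exfalso
      refine huD ?_
      rw [← odd_conj h.dd hu2 (hj ▸ pow_orderOf_eq_one (d * (x * y)))]
      exact mem_D_conj _ hd0
  have hm2 : (d * (x * y)) ^ (2 * m) = 1 := hm ▸ pow_orderOf_eq_one _
  have hmpos : 0 < m := by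
    have := orderOf_pos (d * (x * y)); omega
  set v := (d * (x * y)) ^ m with hvdef
  have hv1 : v ≠ 1 := pow_ne_one_of_lt_orderOf hmpos.ne' (by omega)
  have hv2 : v * v = 1 := by rw [hvdef, ← pow_add, ← two_mul, hm2]
  have hvu : Commute v (x * y) := (half_central h.dd hu2 hm2).symm
  have hvd : Commute v d := by
    have h1 : Commute (d * (x * y)) v := (Commute.refl _).pow_right m
    have h2 := h1.mul_left hvu.symm
    rw [mul_assoc, hu2, mul_one] at h2
    exact h2.symm
  have hvi := inv_eq_of_mul_eq_one_left hv2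
  have he : v * x * v⁻¹ ∈ conjugatesOf d := mem_D_conj v hx
  have hfix : v * (x * y) * v⁻¹ = x * y := by rw [hvu.eq, mul_inv_cancel_right]
  have hx2 := sq_of_conj h.dd hx
  have hy2 := sq_of_conj h.dd hy
  have hsplit := h.pair_split hx hy he hxy cxy (by
      have := (commute_conj (g := v)).mpr ((Commute.refl x).mul_right cxy)
      rwa [hfix] at this)
    (by
      rw [show v * x * v⁻¹ * (x * y) = v * x * v⁻¹ * (v * (x * y) * v⁻¹) by rw [hfix],
        show v * x * v⁻¹ * (v * (x * y) * v⁻¹) = v * (x * x * y) * v⁻¹ by group, hx2, one_mul]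
      exact mem_D_conj v hy)
  rcases hsplit with e | e
  · exact hcon (h.cent_conn hv2 hv1 hd0 hx hvd (mul_inv_eq_iff_eq_mul.mp e))
  set T := Subgroup.zpowers v ⊔ Subgroup.closure {x, y}
  obtain ⟨hel1, hel2⟩ := elem_closure (T := ({x, y} : Set G))
    (by rintro z (rfl | rfl); exacts [hx2, hy2])
    (by rintro z (rfl | rfl) z' (rfl | rfl); exacts [Commute.refl _, cxy, cxy.symm, Commute.refl _])
  have hnorm : v ∈ Subgroup.normalizer (Subgroup.closure ({x, y} : Set G) : Set G) := by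
    refine Subgroup.mem_normalizer_fintype fun z hz => ?_
    have hle : Subgroup.closure ({x, y} : Set G) ≤
        (Subgroup.closure ({x, y} : Set G)).comap (MulAut.conj v).toMonoidHom := by
      rw [Subgroup.closure_le]
      intro t ht
      show v * t * v⁻¹ ∈ Subgroup.closure ({x, y} : Set G)
      rcases ht with ht | ht
      · rw [ht, e]; exact Subgroup.subset_closure (Or.inr rfl)
      · rw [show t = y from ht, show v * y * v⁻¹ = x by
          rw [← e, hvi, show v * (v * x * v) * v = v * v * x * (v * v) by group, hv2, one_mul, mul_one]]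
        exact Subgroup.subset_closure (Or.inl rfl)
    exact hle hz
  have hT2 : IsPGroup 2 ↥T := IsPGroup.to_sup_of_normal_right' (twoGroup_zpowers hv2)
    (twoGroup_of_sq hel2) (Subgroup.zpowers_le.mpr hnorm)
  obtain ⟨F⟩ := h.frame
  obtain ⟨P, Q, p⟩ := exists_plane (F := K) h.hK
  obtain ⟨g, hg⟩ := F.two_group_conj p hT2
  obtain ⟨f, ⟨hfA, hfD⟩, hcf⟩ := F.fixes_member p
    (hg v (Subgroup.mem_sup_left (Subgroup.mem_zpowers v)))
    (by rw [show g * v * g⁻¹ * (g * v * g⁻¹) = g * (v * v) * g⁻¹ by group, hv2, mul_one, mul_inv_cancel])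
  have hgx := F.norm_mem p (mem_D_conj g hx)
    (hg x (Subgroup.mem_sup_right (Subgroup.subset_closure (Or.inl rfl))))
  have hf' : g⁻¹ * f * g ∈ conjugatesOf d := by simpa using mem_D_conj g⁻¹ hfD
  have hfv : Commute v (g⁻¹ * f * g) := by
    rw [← commute_conj (g := g), show g * (g⁻¹ * f * g) * g⁻¹ = f by group]; exact hcf
  have hfx : Commute (g⁻¹ * f * g) x := by
    rw [← commute_conj (g := g), show g * (g⁻¹ * f * g) * g⁻¹ = f by group]
    exact (F.pl_elem p).1 _ hfA _ hgx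
  exact hcon ((h.cent_conn hv2 hv1 hd0 hf' hvd hfv).trans (Conn.of_comm hf' hx hfx))

end Cfsg.Agent.H47.TwoU62
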