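import Cfsg.Agent.H93.U4Points

/-!
The forty five points of a non-degenerate four space with the values of the form between them, and
the certificate used in the diameter two argument.
-/

set_option autoImplicit false

namespace Cfsg.Agent.H47.TwoU62

open Cfsg.Agent.H93

variable {F : Type*} [Field F] [Fintype F] (hF : Fintype.card F = 4)

include hF

/-- the points of a four dimensional non-degenerate subspace, with the values of the form -/
theorem forty_five_val {W : Submodule F (Vec F)} (hW : Cfsg.Agent.Unitary.Nondeg 2 W)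
    (h4 : Module.finrank F W = 4) :
    ∃ P : Fin 45 → Vec F, (∀ i, IsPt (P i) ∧ P i ∈ W) ∧ (∀ i j, SamePt (P i) (P j) → j = i) ∧
      (∀ v ∈ W, IsPt v → ∃ i, SamePt (P i) v) ∧
      (∀ i j, (i ≠ j ∧ hb (P i) (P j) = 0) ↔ qAdj i j = true) ∧
      ∃ w : F, w ^ 2 + w + 1 = 0 ∧ ∀ i j, hb (P i) (P j) = bval w (qform (qPt i) (qPt j)) := by
  obtain ⟨w, hw0, hw1, hw⟩ := exists_omega hF
  have hb' := bval_bijective hF hw
  have hF' := card_eq_sq hF
  obtain ⟨f, hf, hspan⟩ := Cfsg.Agent.Unitary.exists_ON_basis hF' W hW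
  revert f
  rw [h4]
  intro f hf hspan
  let V : Q4 → Vec F := fun x =>
    bval w x.1 • f 0 + bval w x.2.1 • f 1 + bval w x.2.2.1 • f 2 + bval w x.2.2.2 • f 3
  have hmem : ∀ x, V x ∈ W := fun x => by
    have : ∀ i, f i ∈ W := fun i => hspan ▸ Submodule.subset_span ⟨i, rfl⟩
    exact W.add_mem (W.add_mem (W.add_mem (W.smul_mem _ (this 0)) (W.smul_mem _ (this 1)))
      (W.smul_mem _ (this 2))) (W.smul_mem _ (this 3))
  have hn : ∀ i j, hb (f i) (f j) = if i = j then 1 else 0 := hf
  have hform : ∀ x y, hb (V x) (V y) = bval w (qform x y) := by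
    rintro ⟨x0, x1, x2, x3⟩ ⟨y0, y1, y2, y3⟩
    simp [V, qform, bval_add hF, bval_mul hF hw, hb_add_left, hb_add_right hF, hb_smul_left,
      hb_smul_right, hn, pow_two]
    ring
  have hcoord : ∀ x i, hb (V x) (f i) = ![bval w x.1, bval w x.2.1, bval w x.2.2.1, bval w x.2.2.2] i := by
    rintro ⟨x0, x1, x2, x3⟩ i
    fin_cases i <;> simp [V, hb_add_left, hb_smul_left, hn]
  have hinj : Function.Injective V := by
    rintro ⟨x0, x1, x2, x3⟩ ⟨y0, y1, y2, y3⟩ e
    have k := fun i => (hcoord (x0, x1, x2, x3) i).symm.trans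
      ((congrArg (fun v => hb v (f i)) e).trans (hcoord (y0, y1, y2, y3) i))
    have k0 := hb'.1 (k 0)
    have k1 := hb'.1 (k 1)
    have k2 := hb'.1 (k 2)
    have k3 := hb'.1 (k 3)
    subst k0 k1 k2 k3
    rfl
  have hsurj : ∀ v ∈ W, ∃ x, V x = v := by
    intro v hv
    rw [← hspan] at hv
    obtain ⟨c, hc⟩ := (Submodule.mem_span_range_iff_exists_fun F).1 hv
    obtain ⟨x0, e0⟩ := hb'.2 (c 0)
    obtain ⟨x1, e1⟩ := hb'.2 (c 1)
    obtain ⟨x2, e2⟩ := hb'.2 (c 2)
    obtain ⟨x3, e3⟩ := hb'.2 (c 3)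
    exact ⟨(x0, x1, x2, x3), by rw [← hc, Fin.sum_univ_four]; simp [V, e0, e1, e2, e3]⟩
  have hsm : ∀ c x, V (qsmul c x) = bval w c • V x := by
    rintro c ⟨x0, x1, x2, x3⟩
    simp [V, qsmul, bval_mul hF hw, smul_add, smul_smul]
  have z0 : bval w (false, false) = 0 := by simp [bval]
  have V0 : V ((false, false), (false, false), (false, false), (false, false)) = 0 := by
    simp [V, z0]
  have hP : ∀ i, IsPt (V (qPt i)) := fun i => by
    refine ⟨fun e => ?_, by rw [hform, qPt_iso, z0]⟩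
    have e' := hinj (e.trans V0.symm)
    have hi : ∀ j : Fin 45, qPt j = qsmul (false, false) (qPt j) → False := by decide +kernel
    exact hi i (by rw [e']; rfl)
  refine ⟨fun i => V (qPt i), fun i => ⟨hP i, hmem _⟩, fun i j ⟨a, ha⟩ => ?_, fun v hv hvp => ?_,
    fun i j => ?_, w, hw, fun i j => hform _ _⟩
  · obtain ⟨c, rfl⟩ := hb'.2 a
    exact qPt_distinct i j c (hinj (ha.trans (hsm c (qPt i)).symm))
  · obtain ⟨x, rfl⟩ := hsurj v hv
    obtain ⟨i, c, rfl⟩ := qPt_cover x (fun e => hvp.1 (by rw [e, V0]))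
      (hb'.1 (by rw [← hform, hvp.2, z0]))
    exact ⟨i, bval w c, hsm c (qPt i)⟩
  · show (i ≠ j ∧ hb (V (qPt i)) (V (qPt j)) = 0) ↔ _
    rw [hform, qAdj, decide_eq_true_iff, ← z0]
    exact and_congr_right fun _ => hb'.1.eq_iff

omit hF

/-- the scalars other than zero -/
def nzB4 : List B4 := [(true, false), (false, true), (true, true)]

/-- four points admitting no scaling that avoids the value one -/
def certPts : List (Fin 45) := [1, 13, 28, 34]

/-- a pair of scaled points with inner product one -/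
def certHit (c : Fin 45 → B4) (i j : Fin 45) : Bool :=
  bmul (bmul (c i) (bmul (c j) (c j))) (qform (qPt i) (qPt j)) == (true, false)

set_option maxRecDepth 8000 in
theorem cert4 : ∀ a ∈ nzB4, ∀ b ∈ nzB4, ∀ c ∈ nzB4, ∀ e ∈ nzB4,
    ∃ i ∈ certPts, ∃ j ∈ certPts, i ≠ j ∧
      certHit (fun k => if k = 1 then a else if k = 13 then b else if k = 28 then c else e) i j = true := by
  decide +kernel

set_option maxRecDepth 8000 in
theorem qAdj_separate : ∀ i j : Fin 45, qAdj i j = true →
    ∃ l : Fin 45, l ≠ j ∧ qAdj i l = true ∧ qAdj j l = false := by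
  decide +kernel

end Cfsg.Agent.H47.TwoU62
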