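import Cfsg.Agent.H47.TwoU62.Connected
import Cfsg.Agent.H47.TwoU62.Forty
import Cfsg.Agent.H93.Geo22

/-!
Two members that do not commute have a common neighbour.
-/

set_option autoImplicit false

namespace Cfsg.Agent.H47.TwoU62

open Cfsg.Agent.H93

variable {G : Type*} [Group G] [Finite G] {K : Type*} [Field K] [Fintype K] {d : G} {h : Hyp K d}

omit [Finite G] in
theorem Frame.m_smul (F : Frame h) {v : Vec K} (hv : IsPt v) {t : K} (ht : t ≠ 0) :
    IsPt (t • v) ∧ F.m (t • v) = F.m v :=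
  have hp : IsPt (t • v) := ⟨smul_ne_zero ht hv.1, by rw [hb_self_smul h.hK, hv.2, mul_zero]⟩
  ⟨hp, ((F.m_eq hv hp).mpr ⟨t, rfl⟩).symm⟩

/-- a path of length three is shortened -/
theorem Hyp.far_step (h : Hyp K d) {a y r : G} (ha : a ∈ conjugatesOf d) (hy : y ∈ conjugatesOf d)
    (hr : r ∈ conjugatesOf d) (hdy : ¬ Commute d y) (hdr : ¬ Commute d r) (cda : Commute d a)
    (cay : Commute a y) (cyr : Commute y r) :
    ∃ z ∈ conjugatesOf d, Commute d z ∧ Commute z r := by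
  classical
  by_cases har : Commute a r
  · exact ⟨a, ha, cda, har⟩
  have hK := h.hK
  have hd0 : d ∈ conjugatesOf d := mem_conjugatesOf_self
  have hry : r ≠ y := fun e => har (e ▸ cay)
  have hay : a ≠ y := fun e => hdy (e ▸ cda)
  obtain ⟨hA, hDA⟩ := h.of_mem ha
  obtain ⟨Fa⟩ := hA.frame
  obtain ⟨hY, hDY⟩ := h.of_mem hy
  obtain ⟨Fy⟩ := hY.frame
  obtain ⟨ud, hud, ed⟩ := Fa.nb_surj (y := d) ⟨hDA.symm ▸ hd0, fun e => hdy (e ▸ cay), cda.symm⟩
  obtain ⟨uy0, huy0, ey0⟩ := Fa.nb_surj (y := y) ⟨hDA.symm ▸ hy, hay.symm, cay⟩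
  have hne0 : hb uy0 ud ≠ 0 := fun e => hdy (by
    rw [ed, ey0]; exact ((Fa.m_comm huy0 hud).mpr e).symm)
  obtain ⟨huy, euy'⟩ := Fa.m_smul huy0 (inv_ne_zero hne0)
  set uy := (hb uy0 ud)⁻¹ • uy0
  have ey : y = Fa.m uy := ey0.trans euy'.symm
  have hyd : hb uy ud = 1 := by rw [hb_smul_left, inv_mul_cancel₀ hne0]
  obtain ⟨pv, hpv, epv⟩ := Fy.nb_surj (y := a) ⟨hDY.symm ▸ ha, hay, cay.symm⟩
  obtain ⟨R0, hR0, eR0⟩ := Fy.nb_surj (y := r) ⟨hDY.symm ▸ hr, hry, cyr⟩
  have hne1 : hb R0 pv ≠ 0 := fun e => har (by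
    rw [epv, eR0]; exact ((Fy.m_comm hR0 hpv).mpr e).symm)
  obtain ⟨hR, eR'⟩ := Fy.m_smul hR0 (inv_ne_zero hne1)
  set R := (hb R0 pv)⁻¹ • R0
  have eR : r = Fy.m R := eR0.trans eR'.symm
  have hRp : hb R pv = 1 := by rw [hb_smul_left, inv_mul_cancel₀ hne1]
  have hpR : hb pv R = 1 := hb_one_comm hK hRp
  obtain ⟨hn0, h40, hmem0⟩ := pair_perp hK hud huy hyd
  obtain ⟨X, hX, hXs, hXc, hXa, -⟩ := forty_five_val hK hn0 h40
  obtain ⟨hn1, h41, hmem1⟩ := pair_perp hK hpv hR hRp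
  obtain ⟨Z, hZ, hZs, hZc, hZa, wv, hwv, hZv⟩ := forty_five_val hK hn1 h41
  set k : Fin 45 → G := fun i => Fa.m (X i) with hk
  have hkD : ∀ i, k i ∈ conjugatesOf d := fun i => hDA ▸ Fa.m_mem (hX i).1
  have hX0 := fun i => (hmem0 (X i)).mp (hX i).2
  have hkd : ∀ i, Commute (k i) d := fun i => by
    rw [ed]; exact (Fa.m_comm (hX i).1 hud).mpr (hX0 i).1
  have hky : ∀ i, Commute (k i) y := fun i => by
    rw [ey]; exact (Fa.m_comm (hX i).1 huy).mpr (hX0 i).2
  have hkney : ∀ i, k i ≠ y := fun i e => hdy (e ▸ (hkd i).symm)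
  -- the images in the second residue
  have himg : ∀ i, ∃ q, IsPt q ∧ k i = Fy.m q ∧ hb q pv = 0 := fun i => by
    obtain ⟨q, hq, eq⟩ := Fy.nb_surj (y := k i) ⟨hDY.symm ▸ hkD i, hkney i, (hky i).symm⟩
    refine ⟨q, hq, eq, (Fy.m_comm hq hpv).mp ?_⟩
    rw [← eq, ← epv]
    exact (Fa.comm_d _).symm
  choose q0 hq0 eq0 hq0p using himg
  by_contra hcon
  push_neg at hcon
  have hne : ∀ i, hb (q0 i) R ≠ 0 := fun i e => hcon (k i) (hkD i) (hkd i).symm (by
    rw [eq0 i, eR]; exact (Fy.m_comm (hq0 i) hR).mpr e)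
  set q : Fin 45 → Vec K := fun i => (hb (q0 i) R)⁻¹ • q0 i with hqdef
  have hq : ∀ i, IsPt (q i) ∧ k i = Fy.m (q i) ∧ hb (q i) pv = 0 ∧ hb (q i) R = 1 := fun i =>
    have hsm := Fy.m_smul (hq0 i) (inv_ne_zero (hne i))
    ⟨hsm.1, (eq0 i).trans hsm.2.symm, by rw [hqdef]; simp only [hb_smul_left, hq0p, mul_zero],
      by rw [hqdef]; simp only [hb_smul_left, inv_mul_cancel₀ (hne i)]⟩
  clear_value q
  set w : Fin 45 → Vec K := fun i => q i + pv with hwdef
  have hwq : ∀ i j, hb (w i) (w j) = hb (q i) (q j) := fun i j => by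
    have e : hb pv (q j) = 0 := (hb_eq_zero_comm hK).mp (hq j).2.2.1
    simp only [hwdef, hb_add_left, hb_add_right hK, (hq i).2.2.1, e, hpv.2, add_zero]
  have hwpt : ∀ i, IsPt (w i) := fun i =>
    ⟨fun e => by
      have e1 := vec_eq_of_add hK e
      have : k i = a := by rw [(hq i).2.1, e1, ← epv]
      exact (Fa.m_ne (hX i).1).1 this,
      by rw [hwq, (hq i).1.2]⟩
  have hwmem : ∀ i, ∃ j, SamePt (Z j) (w i) := fun i => by
    refine hZc _ ((hmem1 _).mpr ⟨?_, ?_⟩) (hwpt i)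
    · rw [hwdef, hb_add_left, (hq i).2.2.1, hpv.2, add_zero]
    · rw [hwdef, hb_add_left, (hq i).2.2.2, hpR]; exact add_self_zero hK 1
  choose σ c hc using hwmem
  have hc0 : ∀ i, c i ≠ 0 := fun i e => (hwpt i).1 (by rw [hc i, e, zero_smul])
  have hkinj : ∀ i j, k i = k j → i = j := fun i j e =>
    (hXs i j ((Fa.m_eq (hX i).1 (hX j).1).mp e)).symm
  have hcomm : ∀ i j, hb (X i) (X j) = 0 ↔ hb (w i) (w j) = 0 := fun i j => by
    rw [hwq, ← Fy.m_comm (hq i).1 (hq j).1, ← (hq i).2.1, ← (hq j).2.1,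
      ← Fa.m_comm (hX i).1 (hX j).1]
  have hww : ∀ i j, hb (w i) (w j) = c i * c j ^ 2 * hb (Z (σ i)) (Z (σ j)) := fun i j => by
    rw [hc i, hc j, hb_smul_left, hb_smul_right]; ring
  have hσ : Function.Injective σ := by
    intro i j e
    by_contra hij
    have h0 : hb (w i) (w j) = 0 := by rw [hww, e, (hZ (σ j)).1.2, mul_zero]
    obtain ⟨l, hlj, hil, hjl⟩ := qAdj_separate i j ((hXa i j).mp ⟨hij, (hcomm i j).mpr h0⟩)
    have h1 : hb (w i) (w l) = 0 := (hcomm i l).mp ((hXa i l).mpr hil).2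
    have h2 : hb (w j) (w l) ≠ 0 := fun q => by
      have := (hXa j l).mp ⟨hlj.symm, (hcomm j l).mpr q⟩
      rw [hjl] at this
      exact Bool.false_ne_true this
    rw [hww, e, mul_eq_zero, mul_eq_zero] at h1
    rw [hww] at h2
    rcases h1 with (h1 | h1) | h1
    · exact hc0 i h1
    · exact h2 (by rw [h1, mul_zero, zero_mul])
    · exact h2 (by rw [h1, mul_zero])
  -- the forbidden value
  have forbid : ∀ i j, hb (w i) (w j) ≠ 0 → hb (w j) (w i) ≠ 1 := by
    intro i j hij hone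
    have hthird := isPt_third hK (hX i).1 (hX j).1
    set x := X j + hb (X j) (X i) • X i
    obtain ⟨l, hl⟩ := hXc x (Submodule.add_mem _ (hX j).2 (Submodule.smul_mem _ _ (hX i).2)) hthird
    have e1 : k i * k j * k i = k l := by
      show Fa.m (X i) * Fa.m (X j) * Fa.m (X i) = Fa.m (X l)
      rw [Fa.third (hX i).1 (hX j).1]
      exact ((Fa.m_eq (hX l).1 hthird).mpr hl).symm
    rw [(hq i).2.1, (hq j).2.1, (hq l).2.1, Fy.third (hq i).1 (hq j).1] at e1
    obtain ⟨t, ht⟩ := (Fy.m_eq (isPt_third hK (hq i).1 (hq j).1) (hq l).1).mp e1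
    have e2 : hb (q l) R = hb (t • (q j + hb (q j) (q i) • q i)) R := congrArg (fun u => hb u R) ht
    rw [(hq l).2.2.2, hb_smul_left, hb_add_left, hb_smul_left, (hq j).2.2.2, (hq i).2.2.2,
      ← hwq, hone, mul_one, add_self_zero hK, mul_zero] at e2
    exact one_ne_zero e2
  -- the certificate
  obtain ⟨hbi, hsur⟩ := (Finite.injective_iff_bijective.mp hσ)
  have hbv := bval_bijective hK hwv
  have z0 : bval wv (false, false) = (0 : K) := by simp [bval]
  have o1 : bval wv (true, false) = (1 : K) := by simp [bval]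
  choose τ hτ using hsur
  choose e he using fun s => hbv.2 (c (τ s))
  have henz : ∀ s, e s ∈ nzB4 := fun s => by
    have h0 : e s ≠ (false, false) := fun q => hc0 (τ s) (by rw [← he s, q, z0])
    revert h0
    generalize e s = t
    obtain ⟨t1, t2⟩ := t
    cases t1 <;> cases t2 <;> simp [nzB4]
  obtain ⟨i, hi, j, hj, hij, hit⟩ :=
    cert4 (e 1) (henz 1) (e 13) (henz 13) (e 28) (henz 28) (e 34) (henz 34)
  set f : Fin 45 → B4 := fun s => if s = 1 then e 1 else if s = 13 then e 13 else if s = 28 then e 28 else e 34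
  have hfe : ∀ s ∈ certPts, f s = e s := by
    intro s hs
    simp only [certPts, List.mem_cons, List.not_mem_nil, or_false] at hs
    rcases hs with rfl | rfl | rfl | rfl <;> simp [f]
  simp only [certHit, beq_iff_eq] at hit
  rw [hfe i hi, hfe j hj] at hit
  have hval : hb (w (τ i)) (w (τ j)) = 1 := by
    rw [hww, hτ, hτ, hZv, ← he i, ← he j, pow_two, ← bval_mul hK hwv, ← bval_mul hK hwv,
      ← bval_mul hK hwv, hit, o1]
  exact forbid (τ j) (τ i) (by rw [hb_conj hK (w (τ i)) (w (τ j)), hval, one_pow]; exact one_ne_zero) hval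

/-- two members that do not commute have a common neighbour -/
theorem Hyp.common_exists (h : Hyp K d) {x : G} (hx : x ∈ conjugatesOf d) (hn : ¬ Commute d x) :
    ∃ z ∈ conjugatesOf d, Commute d z ∧ Commute z x := by
  suffices hall : Commute d x ∨ ∃ z ∈ conjugatesOf d, Commute d z ∧ Commute z x from hall.resolve_left hn
  have hc := h.connected hx
  clear hn hx
  induction hc with
  | refl => exact Or.inl (Commute.refl d)
  | @tail z r _ hzr ih =>
    by_cases hdr : Commute d r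
    · exact Or.inl hdr
    right
    rcases ih with hdz | ⟨a, ha, cda, caz⟩
    · exact ⟨z, hzr.1, hdz, hzr.2.2⟩
    · by_cases hdz : Commute d z
      · exact ⟨z, hzr.1, hdz, hzr.2.2⟩
      · exact h.far_step ha hzr.1 hzr.2.1 hdz hdr cda caz hzr.2.2

end Cfsg.Agent.H47.TwoU62
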