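import Mathlib

/-!
A prime with two of multiplicative order above ten does not divide the length of an orbit of the
normaliser of an elementary abelian subgroup of order `2 ^ 10`.
-/

set_option autoImplicit false

namespace Cfsg.Agent.H47.TwoU62

variable {G : Type*} [Group G]

/-- conjugation by an element of the normaliser -/
def normConj (A : Subgroup G) : ↥(Subgroup.normalizer (A : Set G)) →* MulAut ↥A where
  toFun n :=
    { toFun := fun x => ⟨n.1 * x.1 * n.1⁻¹, (Subgroup.mem_normalizer_iff.mp n.2 x.1).mp x.2⟩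
      invFun := fun x => ⟨n.1⁻¹ * x.1 * n.1, (Subgroup.mem_normalizer_iff''.mp n.2 x.1).mp x.2⟩
      left_inv := fun x => Subtype.ext (by simp [mul_assoc])
      right_inv := fun x => Subtype.ext (by simp [mul_assoc])
      map_mul' := fun x y => Subtype.ext (by simp [mul_assoc]) }
  map_one' := by ext x; simp
  map_mul' m n := by ext x; simp [mul_assoc]

theorem normConj_apply (A : Subgroup G) (n : ↥(Subgroup.normalizer (A : Set G))) (x : ↥A) :
    ((normConj A n x : ↥A) : G) = n.1 * x.1 * n.1⁻¹ := rfl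

theorem no_big_prime [Finite G] (A : Subgroup G) (hA : Nat.card A = 1024) {O : Set G} (hO : O ⊆ A)
    {d : G} (hd : d ∈ O)
    (htr : ∀ z ∈ O, ∃ n ∈ Subgroup.normalizer (A : Set G), n * d * n⁻¹ = z)
    (hinv : ∀ n ∈ Subgroup.normalizer (A : Set G), ∀ z ∈ O, n * z * n⁻¹ ∈ O)
    {p : ℕ} (hp : p.Prime) (hord : ∀ k, k ≤ 10 → 2 ^ k ≡ 1024 [MOD p] → k = 10) :
    ¬ p ∣ O.ncard := by
  intro hdvd
  haveI : Fact p.Prime := ⟨hp⟩
  have : Finite (MulAut ↥A) := Finite.of_injective (fun e => (e : ↥A → ↥A)) DFunLike.coe_injective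
  set X := (normConj A).range with hX
  set a : ↥A := ⟨d, hO hd⟩ with ha
  have horb : (Subtype.val '' MulAction.orbit X a) = O := by
    ext z
    constructor
    · rintro ⟨_, ⟨⟨_, n, rfl⟩, rfl⟩, rfl⟩
      exact hinv n.1 n.2 d hd
    · intro hz
      obtain ⟨n, hn, e⟩ := htr z hz
      exact ⟨_, ⟨⟨_, ⟨n, hn⟩, rfl⟩, rfl⟩, e⟩
  rw [← horb, Set.ncard_image_of_injective _ Subtype.val_injective, ← MulAction.index_stabilizer]
    at hdvd
  obtain ⟨σ, hσ⟩ := exists_prime_orderOf_dvd_card' (G := ↥X) p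
    (hdvd.trans (Subgroup.index_dvd_card _))
  have hP : IsPGroup p ↥(Subgroup.zpowers σ) := IsPGroup.of_card (n := 1)
    (by rw [Nat.card_zpowers, hσ, pow_one])
  let f : ↥A →* ↥A := (σ.1 : MulAut ↥A).toMonoidHom
  set Fx : Subgroup ↥A := f.eqLocus (MonoidHom.id _)
  have hfix : (MulAction.fixedPoints ↥(Subgroup.zpowers σ) ↥A) = (Fx : Set ↥A) := by
    ext x
    constructor
    · intro hx; exact hx ⟨σ, Subgroup.mem_zpowers σ⟩
    · intro hx g
      have hst : σ ∈ MulAction.stabilizer X x := hx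
      exact Subgroup.zpowers_le.mpr hst g.2
  have hmod := hP.card_modEq_card_fixedPoints ↥A
  rw [hA, hfix, SetLike.coe_sort_coe] at hmod
  have hd2 : Nat.card ↥Fx ∣ 2 ^ 10 := by
    have := Subgroup.card_subgroup_dvd_card Fx
    rwa [hA, show (1024 : ℕ) = 2 ^ 10 by norm_num] at this
  obtain ⟨k, hk, ek⟩ := (Nat.dvd_prime_pow Nat.prime_two).mp hd2
  rw [ek] at hmod
  have htop : Fx = ⊤ := by
    apply Subgroup.eq_top_of_card_eq
    rw [ek, hord k hk hmod.symm, hA]; norm_num
  have h1 : σ = 1 := by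
    apply Subtype.ext
    apply MulEquiv.ext
    intro x
    have : x ∈ Fx := htop ▸ Subgroup.mem_top x
    exact this
  rw [h1, orderOf_one] at hσ
  exact hp.one_lt.ne hσ

end Cfsg.Agent.H47.TwoU62
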