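import Cfsg.Agent.H47.TwoU62.Setup
import Cfsg.Agent.H47.TwoU62.Kill
import Cfsg.Agent.H93.U6Frame

/-!
Fusion in the subgroup of a plane: its members are the centralised transposition and the twenty one
members attached to the points of the plane.
-/

set_option autoImplicit false

namespace Cfsg.Agent.H47.TwoU62

open Cfsg.Agent.H93

variable {G : Type*} [Group G] [Finite G] {K : Type*} [Field K] [Fintype K] {d : G} {h : Hyp K d}
  (F : Frame h) {P Q : Fin 3 → Vec K} (p : Plane P Q)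

/-- the members in a subgroup -/
def mset (d : G) (A : Subgroup G) : Set G := {x | x ∈ A ∧ x ∈ conjugatesOf d}

omit [Finite G] in
theorem normalizer_mset {A : Subgroup G} {n : G} (hn : n ∈ Subgroup.normalizer (A : Set G)) {z : G}
    (hz : z ∈ mset d A) : n * z * n⁻¹ ∈ mset d A :=
  ⟨(Subgroup.mem_normalizer_iff.mp hn z).mp hz.1, mem_D_conj n hz.2⟩

/-- the normaliser of a plane subgroup is transitive on its members -/
theorem Frame.norm_trans {z : G} (hz : z ∈ mset d (F.pl p)) :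
    ∃ n ∈ Subgroup.normalizer (F.pl p : Set G), n * d * n⁻¹ = z := by
  obtain ⟨hzA, hzD⟩ := hz
  obtain ⟨g, hg⟩ := isConj_iff.mp hzD
  obtain ⟨hc, hs, hcard⟩ := F.pl_elem p
  set B : Subgroup G := (F.pl p).map (MulAut.conj g⁻¹).toMonoidHom with hB
  have hBmem : ∀ x, x ∈ B ↔ g * x * g⁻¹ ∈ F.pl p := by
    intro x
    constructor
    · rintro ⟨y, hy, rfl⟩; simpa [MulAut.conj_apply, mul_assoc] using hy
    · intro hx; exact ⟨_, hx, by simp [MulAut.conj_apply, mul_assoc]⟩
  have hBC : B ≤ Cz d := fun x hx => mem_cent (by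
    have := hc z hzA _ ((hBmem x).mp hx)
    rw [← hg] at this
    exact commute_conj.mp this)
  obtain ⟨k, hk⟩ := F.cls.big_eq_conj h.hK p (B.subgroupOf (Cz d))
    (fun x hx y hy => Subtype.ext
      (commute_conj.mp (hc _ ((hBmem _).mp hx) _ ((hBmem _).mp hy))).eq)
    (fun x hx => Subtype.ext (by
      have := hs _ ((hBmem _).mp hx)
      simp only [Subgroup.coe_subtype] at this
      rw [show g * x.1 * g⁻¹ * (g * x.1 * g⁻¹) = g * (x.1 * x.1) * g⁻¹ by group] at this
      simpa using this))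
    (by rw [Nat.card_congr (Subgroup.subgroupOfEquivOfLe hBC).toEquiv, hB,
      Subgroup.card_map_of_injective (MulEquiv.injective (MulAut.conj g⁻¹)), hcard])
  refine ⟨g * (k : G), Subgroup.mem_normalizer_iff.mpr fun x => ?_, ?_⟩
  · rw [show g * (k : G) * x * (g * (k : G))⁻¹ = g * ((k : G) * x * (k : G)⁻¹) * g⁻¹ by group, ← hBmem]
    constructor
    · intro hx
      obtain ⟨hxC, hx'⟩ := (F.mem_pl p).mp hx
      have : (k * ⟨x, hxC⟩ * k⁻¹ : ↥(Cz d)) ∈ B.subgroupOf (Cz d) := hk ▸ ⟨_, hx', rfl⟩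
      exact this
    · intro hx
      have hm : (⟨_, hBC hx⟩ : ↥(Cz d)) ∈ B.subgroupOf (Cz d) := hx
      rw [hk] at hm
      obtain ⟨y, hy, e⟩ := hm
      exact ⟨y, hy, mul_left_cancel (mul_right_cancel (congrArg Subtype.val e))⟩
  · rw [show g * (k : G) * d * (g * (k : G))⁻¹ = g * ((k : G) * d * (k : G)⁻¹) * g⁻¹ by group,
      ← (comm_of_mem k.2).eq, mul_inv_cancel_right, hg]

omit [Finite G] in
theorem Frame.pts_not_mem (p : Plane P Q) {x : ↥(Cz d)} (hx : x ∈ pts F.Y P ∪ prs F.Y P) :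
    (x : G) ∉ conjugatesOf d := by
  intro hD
  obtain ⟨y, hy⟩ := F.cls.square_of_small h.hK hx p
  exact h.not_square hD y (congrArg Subtype.val hy)

omit [Finite G] in
theorem class_all {X : Set ↥(Cz d)} (hX : ∀ x ∈ X, ∀ y ∈ X, ∃ k : ↥(Cz d), k * x * k⁻¹ = y)
    {x y : ↥(Cz d)} (hx : x ∈ X) (hy : y ∈ X) (hD : (x : G) ∈ conjugatesOf d) :
    (y : G) ∈ conjugatesOf d := by
  obtain ⟨k, rfl⟩ := hX x hx y hy
  exact mem_D_conj _ hD

theorem Frame.exists_other (p : Plane P Q) :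
    ∃ x ∈ prePlane h.hK F.π p, x ≠ dc d ∧ (x : G) ∈ conjugatesOf d := by
  obtain ⟨g, hc, hne⟩ := h.two
  have hD : g * d * g⁻¹ ∈ conjugatesOf d := isConj_iff.mpr ⟨g, rfl⟩
  obtain ⟨k, hk⟩ := F.cls.conj_into h.hK p (y := (⟨g * d * g⁻¹, mem_cent hc⟩ : ↥(Cz d)))
    (Subtype.ext (sq_of_conj h.dd hD))
  refine ⟨_, hk, fun e => hne ?_, mem_D_conj _ hD⟩
  have e' := congrArg Subtype.val e
  simp only [Subgroup.coe_mul, Subgroup.coe_inv] at e'
  calc g * d * g⁻¹ = (k : G)⁻¹ * ((k : G) * (g * d * g⁻¹) * (k : G)⁻¹) * (k : G) := by group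
    _ = (k : G)⁻¹ * (d * (k : G)) := by rw [e']; group
    _ = d := by rw [(comm_of_mem k.2).eq]; group

omit [Finite G] in
theorem shift_mem_pl {X : Set ↥(Cz d)} (hX : ∀ x ∈ X, x ∈ prePlane h.hK F.π p) {x : ↥(Cz d)}
    (hx : x ∈ shift (dc d) X) : x ∈ prePlane h.hK F.π p := by
  obtain ⟨y, hy, rfl⟩ := hx
  exact mul_mem (hX y hy) (F.cls.d_mem h.hK p)

omit [Finite G] in
/-- the members in a plane subgroup, as elements of the centraliser -/
theorem Frame.plC_split {x : ↥(Cz d)} (hx : x ∈ prePlane h.hK F.π p) (hD : (x : G) ∈ conjugatesOf d) :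
    x = dc d ∨ x ∈ shift (dc d) (pts F.Y P) ∨ x ∈ shift (dc d) (prs F.Y P) ∨ x ∈ tris F.Y (dc d) P := by
  rw [← SetLike.mem_coe, F.cls.kinds_eq h.hK p] at hx
  rcases hx with ((((hx | hx) | hx) | hx) | hx) | hx
  · rcases hx with rfl | hx
    · exact absurd (one_mul (1 : G)) (h.not_square hD 1)
    · exact Or.inl hx
  · exact absurd hD (F.pts_not_mem p (Or.inl hx))
  · exact Or.inr (Or.inl hx)
  · exact absurd hD (F.pts_not_mem p (Or.inr hx))
  · exact Or.inr (Or.inr (Or.inl hx))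
  · exact Or.inr (Or.inr (Or.inr hx))

omit [Finite G] in
include p in
theorem Frame.classes_disjoint :
    (∀ x, x ∈ shift (dc d) (pts F.Y P) ∨ x ∈ shift (dc d) (prs F.Y P) ∨ x ∈ tris F.Y (dc d) P →
      x ≠ dc d) ∧
    Disjoint (shift (dc d) (pts F.Y P)) (shift (dc d) (prs F.Y P)) ∧
    Disjoint (shift (dc d) (pts F.Y P)) (tris F.Y (dc d) P) ∧
    Disjoint (shift (dc d) (prs F.Y P)) (tris F.Y (dc d) P) := by
  have hπd := F.cls.ext.π_d h.hK
  have i1 : ∀ x ∈ shift (dc d) (pts F.Y P), ∃ v, IsPt v ∧ F.π x = F.π (F.Y v) := by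
    rintro _ ⟨_, ⟨v, hv, -, rfl⟩, rfl⟩
    exact ⟨v, hv, by rw [map_mul, hπd, mul_one]⟩
  have i2 : ∀ x ∈ shift (dc d) (prs F.Y P), ∃ u v, IsPt u ∧ IsPt v ∧ hb u v = 0 ∧ ¬ SamePt u v ∧
      F.π x = F.π (F.Y u * F.Y v) := by
    rintro _ ⟨_, ⟨u, v, hu, hv, hum, hvm, hs, rfl⟩, rfl⟩
    exact ⟨u, v, hu, hv, p.hb_plane h.hK hum hvm, hs, by simp only [map_mul, hπd, mul_one]⟩
  have i3 : ∀ x ∈ tris F.Y (dc d) P, ∃ R S, Plane R S ∧ F.π x = F.π (tri F.Y R) := by
    rintro x ⟨R, S, r, -, rfl | rfl⟩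
    exacts [⟨R, S, r, rfl⟩, ⟨R, S, r, by rw [map_mul, hπd, mul_one]⟩]
  refine ⟨?_, ?_, ?_, ?_⟩
  · intro x hx e
    subst e
    rcases hx with hx | hx | hx
    · obtain ⟨v, hv, e⟩ := i1 _ hx
      exact ptv_ne_one h.hK hv (by rw [← F.cls.img v hv, ← e, hπd])
    · obtain ⟨u, v, hu, hv, -, hs, e⟩ := i2 _ hx
      exact F.cls.pair_img_ne_one h.hK hu hv hs (e.symm.trans hπd)
    · obtain ⟨R, S, r, e⟩ := i3 _ hx
      exact (F.cls.tri_not_small h.hK r).1 (e.symm.trans hπd)
  · refine Set.disjoint_left.mpr fun x hx hy => ?_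
    obtain ⟨w, hw, e⟩ := i1 x hx
    obtain ⟨u, v, hu, hv, huv, hs, e'⟩ := i2 x hy
    exact F.cls.pair_img_ne_ptv h.hK hu hv hw huv hs (e'.symm.trans e)
  · refine Set.disjoint_left.mpr fun x hx hy => ?_
    obtain ⟨w, hw, e⟩ := i1 x hx
    obtain ⟨R, S, r, e'⟩ := i3 x hy
    exact (F.cls.tri_not_small h.hK r).2.1 w hw (e'.symm.trans e)
  · refine Set.disjoint_left.mpr fun x hx hy => ?_
    obtain ⟨u, v, hu, hv, huv, -, e⟩ := i2 x hx
    obtain ⟨R, S, r, e'⟩ := i3 x hy
    exact (F.cls.tri_not_small h.hK r).2.2 u v hu hv huv (e'.symm.trans e)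

include p in
theorem card_single2 : (insert (dc d) (shift (dc d) (prs F.Y P))).ncard = 211 := by
  rw [Set.ncard_insert_of_notMem (fun q => (F.classes_disjoint p).1 _ (Or.inr (Or.inl q)) rfl),
    PtClass.ncard_shift h.hK, F.cls.card_prs h.hK p]

include p in
theorem card_union12 :
    (insert (dc d) (shift (dc d) (pts F.Y P) ∪ shift (dc d) (prs F.Y P))).ncard = 232 := by
  obtain ⟨h0, h12, -, -⟩ := F.classes_disjoint p
  rw [Set.ncard_insert_of_notMem (fun q => h0 _ (q.imp id Or.inl) rfl), Set.ncard_union_eq h12,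
    PtClass.ncard_shift h.hK, PtClass.ncard_shift h.hK, F.cls.card_pts h.hK p, F.cls.card_prs h.hK p]

include p in
theorem card_union3 :
    (insert (dc d) (shift (dc d) (pts F.Y P) ∪ tris F.Y (dc d) P)).ncard = 582 := by
  obtain ⟨h0, -, h13, -⟩ := F.classes_disjoint p
  rw [Set.ncard_insert_of_notMem (fun q => h0 _ (q.imp id Or.inr) rfl), Set.ncard_union_eq h13,
    PtClass.ncard_shift h.hK, F.cls.card_pts h.hK p, F.cls.card_tris h.hK p]

include p in
theorem card_union23 :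
    (insert (dc d) (shift (dc d) (prs F.Y P) ∪ tris F.Y (dc d) P)).ncard = 771 := by
  obtain ⟨h0, -, -, h23⟩ := F.classes_disjoint p
  rw [Set.ncard_insert_of_notMem (fun q => h0 _ (Or.inr (Set.mem_union _ _ _ |>.mp q)) rfl), Set.ncard_union_eq h23,
    PtClass.ncard_shift h.hK, F.cls.card_prs h.hK p, F.cls.card_tris h.hK p]

theorem kill {S : Set ↥(Cz d)}
    (hS : {x : ↥(Cz d) | x ∈ prePlane h.hK F.π p ∧ (x : G) ∈ conjugatesOf d} = S) {q : ℕ}
    (hq : q.Prime) (hord : ∀ k, k ≤ 10 → 2 ^ k ≡ 1024 [MOD q] → k = 10) (hdiv : q ∣ S.ncard) :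
    False := by
  refine no_big_prime (F.pl p) (F.pl_elem p).2.2 (O := mset d (F.pl p)) (fun x hx => hx.1)
    ⟨F.d_pl p, mem_conjugatesOf_self⟩ (fun z hz => F.norm_trans p hz)
    (fun n hn z hz => normalizer_mset hn hz) hq hord ?_
  have e : mset d (F.pl p) = Subtype.val '' S := by
    rw [← hS]
    ext x
    constructor
    · rintro ⟨⟨y, hy, rfl⟩, hD⟩; exact ⟨y, ⟨hy, hD⟩, rfl⟩
    · rintro ⟨y, ⟨hy, hD⟩, rfl⟩; exact ⟨⟨y, hy, rfl⟩, hD⟩
  rwa [e, Set.ncard_image_of_injective _ Subtype.val_injective]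

/-- fusion in the plane subgroup -/
theorem Frame.fusion :
    {x : ↥(Cz d) | x ∈ prePlane h.hK F.π p ∧ (x : G) ∈ conjugatesOf d} =
      insert (dc d) (shift (dc d) (pts F.Y P)) := by
  classical
  set O := {x : ↥(Cz d) | x ∈ prePlane h.hK F.π p ∧ (x : G) ∈ conjugatesOf d} with hOdef
  set X1 := shift (dc d) (pts F.Y P) with hX1
  set X2 := shift (dc d) (prs F.Y P) with hX2
  set X3 := tris F.Y (dc d) P with hX3
  have hall := F.cls.kinds_eq h.hK p
  have mem : ∀ x, (x ∈ X1 ∨ x ∈ X2 ∨ x ∈ X3) → x ∈ prePlane h.hK F.π p := by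
    intro x hx
    rw [← SetLike.mem_coe, hall]
    rcases hx with e | e | e
    exacts [Or.inl (Or.inl (Or.inl (Or.inr e))), Or.inl (Or.inr e), Or.inr e]
  have all1 : (∃ x ∈ X1, x ∈ O) → X1 ⊆ O := fun ⟨x, hx, hxO⟩ y hy => ⟨mem y (Or.inl hy),
    class_all (fun a ha b hb => F.cls.shift_conj h.hK (fun a ha b hb => F.cls.pts_conj h.hK ha hb)
      ha hb) hx hy hxO.2⟩
  have all2 : (∃ x ∈ X2, x ∈ O) → X2 ⊆ O := fun ⟨x, hx, hxO⟩ y hy => ⟨mem y (Or.inr (Or.inl hy)),
    class_all (fun a ha b hb => F.cls.shift_conj h.hK (fun a ha b hb => F.cls.prs_conj h.hK p ha hb)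
      ha hb) hx hy hxO.2⟩
  have all3 : (∃ x ∈ X3, x ∈ O) → X3 ⊆ O := fun ⟨x, hx, hxO⟩ y hy => ⟨mem y (Or.inr (Or.inr hy)),
    class_all (fun a ha b hb => F.cls.tris_conj h.hK h.perf ha hb) hx hy hxO.2⟩
  have hdO : dc d ∈ O := ⟨F.cls.d_mem h.hK p, mem_conjugatesOf_self⟩
  -- transitivity inside the centraliser subgroup
  have move : ∀ e ∈ O, ∃ n ∈ Subgroup.normalizer (F.pl p : Set G), n * d * n⁻¹ = (e : G) :=
    fun e he => F.norm_trans p ⟨⟨e, he.1, rfl⟩, he.2⟩
  have nwit : ∀ {x}, x ∈ pts F.Y P ∪ prs F.Y P → x ∉ O := fun hx hO => F.pts_not_mem p hx hO.2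
  obtain ⟨z, hz, z', hz', hne, hprod, a, ha, b, hb, hab⟩ := F.cls.tri_witness h.hK p
  have hc := (F.pl_elem p).1
  have hs := (F.pl_elem p).2.1
  have hsplit : ∀ x ∈ O, x = dc d ∨ x ∈ X1 ∨ x ∈ X2 ∨ x ∈ X3 := fun x hx => F.plC_split p hx.1 hx.2
  obtain ⟨e0, he0, he0d, he0D⟩ := F.exists_other p
  by_cases h3 : ∃ x ∈ X3, x ∈ O
  · exfalso
    have s3 := all3 h3
    by_cases h1 : ∃ x ∈ X1, x ∈ O
    · have s1 := all1 h1
      by_cases h2 : ∃ x ∈ X2, x ∈ O
      · -- every element outside `O` is a small square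
        have s2 := all2 h2
        have hR : ∀ x ∈ prePlane h.hK F.π p, x ≠ 1 → x ∉ O → x ∈ pts F.Y P ∪ prs F.Y P := by
          intro x hx h1' hxO
          rw [← SetLike.mem_coe, hall] at hx
          rcases hx with ((((hx | hx) | hx) | hx) | hx) | hx
          · rcases hx with rfl | hx
            · exact absurd rfl h1'
            · exact absurd (hx ▸ hdO) hxO
          · exact Or.inl hx
          · exact absurd (s1 hx) hxO
          · exact Or.inr hx
          · exact absurd (s2 hx) hxO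
          · exact absurd (s3 hx) hxO
        have hzO := s3 hz
        obtain ⟨n, hn, hnd⟩ := move z hzO
        have back : ∀ x, x ∈ pts F.Y P ∪ prs F.Y P → ∃ x' ∈ pts F.Y P ∪ prs F.Y P,
            (x' : G) = n⁻¹ * (x : G) * n := by
          intro x hx
          have hxA : x ∈ prePlane h.hK F.π p := by
            rw [← SetLike.mem_coe, hall]
            rcases hx with e | e
            exacts [Or.inl (Or.inl (Or.inl (Or.inl (Or.inr e)))), Or.inl (Or.inl (Or.inr e))]
          obtain ⟨hC', hA'⟩ := (F.mem_pl p).mp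
            ((Subgroup.mem_normalizer_iff''.mp hn (x : G)).mp ⟨x, hxA, rfl⟩)
          refine ⟨⟨_, hC'⟩, hR _ hA' (fun e => ?_) (fun hO => nwit hx ⟨hxA, ?_⟩), rfl⟩
          · have e' := congrArg Subtype.val e
            simp only [Subgroup.coe_one] at e'
            have : x = 1 := Subtype.ext (by
              calc (x : G) = n * (n⁻¹ * (x : G) * n) * n⁻¹ := by group
                _ = 1 := by rw [e']; group)
            subst this
            rcases hx with ⟨v, hv, -, e⟩ | ⟨u, v, hu, hv, -, -, hs', e⟩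
            · exact ptv_ne_one h.hK hv (by rw [← F.cls.img v hv, ← e, map_one])
            · exact F.cls.pair_img_ne_one h.hK hu hv hs' (by rw [← e, map_one])
          · have := mem_D_conj n hO.2
            simpa [mul_assoc] using this
        obtain ⟨a', ha', ea⟩ := back a ha
        obtain ⟨b', hb', eb⟩ := back b hb
        refine F.cls.small_mul_ne h.hK ha' hb' p (Subtype.ext ?_)
        show (a' : G) * (b' : G) = d
        rw [ea, eb, show n⁻¹ * (a : G) * n * (n⁻¹ * (b : G) * n) = n⁻¹ * ((a : G) * (b : G)) * n by group,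
          ← Subgroup.coe_mul, ← hab, ← hnd]
        group
      · -- five hundred and eighty two members
        have hO : O = insert (dc d) (X1 ∪ X3) := by
          refine Set.Subset.antisymm (fun x hx => ?_) ?_
          · rcases hsplit x hx with e | e | e | e
            exacts [Or.inl e, Or.inr (Or.inl e), absurd ⟨x, e, hx⟩ h2, Or.inr (Or.inr e)]
          · rintro x (rfl | e | e)
            exacts [hdO, s1 e, s3 e]
        exact kill F p hO (by norm_num : Nat.Prime 97) (by decide) (by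
          rw [card_union3 F p]; norm_num)
    · by_cases h2 : ∃ x ∈ X2, x ∈ O
      · have s2 := all2 h2
        have hO : O = insert (dc d) (X2 ∪ X3) := by
          refine Set.Subset.antisymm (fun x hx => ?_) ?_
          · rcases hsplit x hx with e | e | e | e
            exacts [Or.inl e, absurd ⟨x, e, hx⟩ h1, Or.inr (Or.inl e), Or.inr (Or.inr e)]
          · rintro x (rfl | e | e)
            exacts [hdO, s2 e, s3 e]
        exact kill F p hO (by norm_num : Nat.Prime 257) (by decide) (by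
          rw [card_union23 F p]; norm_num)
      · -- five hundred and sixty one members
        have hzd : ∀ x ∈ O, x ≠ dc d → x * dc d ∈ O := by
          intro x hx hne
          rcases hsplit x hx with e | e | e | ⟨R, S, r, hR, e⟩
          · exact absurd e hne
          · exact absurd ⟨x, e, hx⟩ h1
          · exact absurd ⟨x, e, hx⟩ h2
          · refine s3 ⟨R, S, r, hR, ?_⟩
            rcases e with e | e
            · exact Or.inr (by rw [e])
            · exact Or.inl (by rw [e, mul_assoc, F.cls.ext.sq, mul_one])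
        obtain ⟨n, hn, hnd⟩ := move z (s3 hz)
        have hzA : z ∈ prePlane h.hK F.π p := (s3 hz).1
        obtain ⟨hC', hA'⟩ := (F.mem_pl p).mp
          ((Subgroup.mem_normalizer_iff''.mp hn (z' : G)).mp ⟨z', (s3 hz').1, rfl⟩)
        have h' := hzd ⟨_, hC'⟩ ⟨hA', by simpa using mem_D_conj n⁻¹ (s3 hz').2⟩ fun e => hne
          (Subtype.ext (by
            have e' := congrArg Subtype.val e
            simp only at e'
            calc (z : G) = n * d * n⁻¹ := hnd.symm
              _ = n * (n⁻¹ * (z' : G) * n) * n⁻¹ := congrArg (fun t => n * t * n⁻¹) e'.symm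
              _ = (z' : G) := by group))
        refine nwit (Or.inr hprod) ⟨mul_mem hzA (s3 hz').1, ?_⟩
        have h'' := mem_D_conj n h'.2
        rw [show ((⟨_, hC'⟩ * dc d : ↥(Cz d)) : G) = n⁻¹ * (z' : G) * n * d from rfl,
          show n * (n⁻¹ * (z' : G) * n * d) * n⁻¹ = (z' : G) * (n * d * n⁻¹) by group,
          show (z' : G) * (n * d * n⁻¹) = (z' : G) * (z : G) from congrArg _ hnd] at h''
        have hzz : Commute (z : G) (z' : G) := hc _ ⟨z, hzA, rfl⟩ _ ⟨z', (s3 hz').1, rfl⟩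
        rw [Subgroup.coe_mul, hzz.eq]
        exact h''
  · by_cases h2 : ∃ x ∈ X2, x ∈ O
    · exfalso
      have s2 := all2 h2
      by_cases h1 : ∃ x ∈ X1, x ∈ O
      · have s1 := all1 h1
        have hO : O = insert (dc d) (X1 ∪ X2) := by
          refine Set.Subset.antisymm (fun x hx => ?_) ?_
          · rcases hsplit x hx with e | e | e | e
            exacts [Or.inl e, Or.inr (Or.inl e), Or.inr (Or.inr e), absurd ⟨x, e, hx⟩ h3]
          · rintro x (rfl | e | e)
            exacts [hdO, s1 e, s2 e]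
        exact kill F p hO (by norm_num : Nat.Prime 29) (by decide) (by
          rw [card_union12 F p]; norm_num)
      · have hO : O = insert (dc d) X2 := by
          refine Set.Subset.antisymm (fun x hx => ?_) ?_
          · rcases hsplit x hx with e | e | e | e
            exacts [Or.inl e, absurd ⟨x, e, hx⟩ h1, Or.inr e, absurd ⟨x, e, hx⟩ h3]
          · rintro x (rfl | e)
            exacts [hdO, s2 e]
        exact kill F p hO (by norm_num : Nat.Prime 211) (by decide) (by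
          rw [card_single2 F p])
    · have h1 : ∃ x ∈ X1, x ∈ O := by
        rcases hsplit e0 ⟨he0, he0D⟩ with e | e | e | e
        exacts [absurd e he0d, ⟨e0, e, he0, he0D⟩, absurd ⟨e0, e, he0, he0D⟩ h2,
          absurd ⟨e0, e, he0, he0D⟩ h3]
      refine Set.Subset.antisymm (fun x hx => ?_) ?_
      · rcases hsplit x hx with e | e | e | e
        exacts [Or.inl e, Or.inr e, absurd ⟨x, e, hx⟩ h2, absurd ⟨x, e, hx⟩ h3]
      · rintro x (rfl | e)
        exacts [hdO, all1 h1 e]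

theorem Frame.mem_pl_D {x : G} :
    x ∈ mset d (F.pl p) ↔
      x = d ∨ ∃ v, IsPt v ∧ v ∈ Submodule.span K (Set.range P) ∧ x = F.m v := by
  have hf := F.fusion p
  constructor
  · rintro ⟨⟨y, hy, rfl⟩, hD⟩
    have : y ∈ insert (dc d) (shift (dc d) (pts F.Y P)) := hf ▸ ⟨hy, hD⟩
    rcases this with rfl | ⟨_, ⟨v, hv, hm, rfl⟩, rfl⟩
    exacts [Or.inl rfl, Or.inr ⟨v, hv, hm, rfl⟩]
  · rintro (rfl | ⟨v, hv, hm, rfl⟩)
    · exact ⟨F.d_pl p, mem_conjugatesOf_self⟩
    · refine ⟨F.m_pl p hv hm, ?_⟩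
      have : F.Y v * dc d ∈ insert (dc d) (shift (dc d) (pts F.Y P)) :=
        Or.inr ⟨_, ⟨v, hv, hm, rfl⟩, rfl⟩
      exact (hf.symm ▸ this : _ ∈ {x : ↥(Cz d) | x ∈ prePlane h.hK F.π p ∧ (x : G) ∈ conjugatesOf d}).2

omit [Finite G] in
theorem exists_plane_mem (hK : Fintype.card K = 4) {v : Vec K} (hv : IsPt v) :
    ∃ P Q : Fin 3 → Vec K, Plane P Q ∧ P 0 = v := by
  obtain ⟨w, hw, hvw, hs⟩ := exists_orth_pt hK hv
  obtain ⟨P, Q, p, p0, -⟩ := exists_plane_pair hK hv hw hvw hs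
  exact ⟨P, Q, p, p0⟩

/-- every transvection gives a member -/
theorem Frame.m_mem {v : Vec K} (hv : IsPt v) : F.m v ∈ conjugatesOf d := by
  obtain ⟨P, Q, p, p0⟩ := exists_plane_mem h.hK hv
  exact ((F.mem_pl_D p).mpr (Or.inr ⟨v, hv, p0 ▸ Submodule.subset_span ⟨0, rfl⟩, rfl⟩)).2

theorem Frame.m_nb {v : Vec K} (hv : IsPt v) : F.m v ∈ nb (conjugatesOf d) d :=
  ⟨F.m_mem hv, (F.m_ne hv).1, F.comm_d v⟩

/-- every centralised member is the centralised transposition or comes from a transvection -/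
theorem Frame.surj {y : G} (hy : y ∈ conjugatesOf d) (hc : Commute d y) :
    y = d ∨ ∃ v, IsPt v ∧ y = F.m v := by
  obtain ⟨P, Q, p⟩ := exists_plane (F := K) h.hK
  obtain ⟨k, hk⟩ := F.cls.conj_into h.hK p (y := (⟨y, mem_cent hc⟩ : ↥(Cz d)))
    (Subtype.ext (sq_of_conj h.dd hy))
  have hm : (k : G) * y * (k : G)⁻¹ ∈ mset d (F.pl p) := ⟨⟨_, hk, rfl⟩, mem_D_conj _ hy⟩
  rcases (F.mem_pl_D p).mp hm with e | ⟨v, hv, -, e⟩
  · left
    calc y = (k : G)⁻¹ * ((k : G) * y * (k : G)⁻¹) * (k : G) := by group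
      _ = (k : G)⁻¹ * (d * (k : G)) := by rw [e]; group
      _ = d := by rw [(comm_of_mem k.2).eq]; group
  · right
    obtain ⟨g, hg⟩ := QuotientGroup.mk_surjective (F.π k⁻¹)
    refine ⟨act g v, act_pt g hv, ?_⟩
    rw [← F.conj_act hg.symm hv, ← e, Subgroup.coe_inv]
    group

theorem Frame.nb_surj {y : G} (hy : y ∈ nb (conjugatesOf d) d) : ∃ v, IsPt v ∧ y = F.m v :=
  (F.surj hy.1 hy.2.2).resolve_left hy.2.1

omit [Finite G] in
theorem ptv_generate (hK : Fintype.card K = 4) (x : Cfsg.PSU 6 K 2) :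
    x ∈ Subgroup.closure {t | ∃ v : Vec K, IsPt v ∧ t = ptv hK v} := by
  obtain ⟨g, rfl⟩ := QuotientGroup.mk_surjective x
  have hle : TS hK (Set.univ : Set (Vec K)) ≤
      (Subgroup.closure {t | ∃ v : Vec K, IsPt v ∧ t = ptv hK v}).comap (QuotientGroup.mk' _) := by
    rw [TS, Subgroup.closure_le]
    rintro _ ⟨v, ⟨hv, -⟩, rfl⟩
    exact Subgroup.subset_closure ⟨v, hv, rfl⟩
  exact hle (TS_univ hK g)

/-- the members centralised by a transposition generate its centraliser -/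
theorem Hyp.cent_eq (h : Hyp K d) : Cz d = nbSub (conjugatesOf d) d := by
  obtain ⟨F⟩ := h.frame
  have hle : nbSub (conjugatesOf d) d ≤ Cz d := by
    rw [Subgroup.closure_le]
    exact fun y hy => mem_cent hy.2.2
  refine le_antisymm (fun c hc => ?_) hle
  set H := (nbSub (conjugatesOf d) d).subgroupOf (Cz d) with hH
  suffices htop : H = ⊤ from show (⟨c, hc⟩ : ↥(Cz d)) ∈ H by rw [htop]; trivial
  have hsurj : ∀ x : Cfsg.PSU 6 K 2, x ∈ H.map F.π := fun x => by
    refine ((Subgroup.closure_le _).mpr ?_) (ptv_generate h.hK x)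
    rintro _ ⟨v, hv, rfl⟩
    exact ⟨⟨F.m v, F.mem_cz v⟩, Subgroup.subset_closure (F.m_nb hv), F.π_m hv⟩
  rw [eq_top_iff, ← h.perf, commutator_def, Subgroup.commutator_le]
  intro x _ y _
  obtain ⟨a, ha, ea⟩ : ∃ a ∈ H, F.π a = F.π x := hsurj _
  obtain ⟨b, hb, eb⟩ : ∃ b ∈ H, F.π b = F.π y := hsurj _
  rw [commutatorElement_def, F.cls.ext.com_congr ea eb]
  exact mul_mem (mul_mem (mul_mem ha hb) (inv_mem ha)) (inv_mem hb)

end Cfsg.Agent.H47.TwoU62
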