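import Cfsg.Agent.H47.TwoU62.Parity

/-!
A product of two commuting members determines them, every member centralising it centralises both,
and two members that do not commute have a product of odd order.
-/

set_option autoImplicit false

namespace Cfsg.Agent.H47.TwoU62

open Cfsg.Agent.H93

variable {G : Type*} [Group G] [Finite G] {K : Type*} [Field K] [Fintype K] {d : G} {h : Hyp K d}

/-- products of two commuting members -/
def IsPair (d v : G) : Prop :=
  ∃ a ∈ conjugatesOf d, ∃ b ∈ conjugatesOf d, a ≠ b ∧ Commute a b ∧ a * b = v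

omit [Finite G] in
theorem sq_mul_of_comm {a b : G} (ha : a * a = 1) (hb : b * b = 1) (hc : Commute a b) :
    a * b * (a * b) = 1 := by
  calc a * b * (a * b) = a * (b * a) * b := by group
    _ = a * (a * b) * b := by rw [hc.eq]
    _ = (a * a) * (b * b) := by group
    _ = 1 := by rw [ha, hb, one_mul]

omit [Finite G] in
theorem comm_of_sq_mul {a b : G} (ha : a * a = 1) (hb : b * b = 1) (e : a * b * (a * b) = 1) :
    Commute a b := by
  have h1 := eq_inv_of_mul_eq_one_left e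
  rwa [mul_inv_rev, inv_eq_of_mul_eq_one_left ha, inv_eq_of_mul_eq_one_left hb] at h1

omit [Finite G] in
theorem Frame.d_mul_m (F : Frame h) (v : Vec K) : d * F.m v = (F.Y v : G) := by
  rw [(F.comm_d v).eq, Frame.m, mul_assoc, h.dd, mul_one]

omit [Finite G] in
theorem Frame.m_mul_m (F : Frame h) (u v : Vec K) :
    F.m u * F.m v = ((F.Y u * F.Y v : ↥(Cz d)) : G) := by
  rw [Frame.m, mul_assoc (F.Y u : G) d, F.d_mul_m]; rfl

theorem IsPair.facts (h : Hyp K d) {v : G} (hv : IsPair d v) :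
    v * v = 1 ∧ v ≠ 1 ∧ v ∉ conjugatesOf d := by
  obtain ⟨a, ha, b, hb, hne, hc, rfl⟩ := hv
  have ha2 := sq_of_conj h.dd ha
  refine ⟨sq_mul_of_comm ha2 (sq_of_conj h.dd hb) hc, fun e => hne ?_, fun hD => ?_⟩
  · calc a = a * b * b := by rw [mul_assoc, sq_of_conj h.dd hb, mul_one]
      _ = b := by rw [e, one_mul]
  · obtain ⟨hA, hDA⟩ := h.of_mem ha
    obtain ⟨F⟩ := hA.frame
    obtain ⟨w, hw, rfl⟩ := F.nb_surj ⟨hDA.symm ▸ hb, hne.symm, hc⟩
    obtain ⟨x, hx⟩ := F.cls.point_square hA.hK hw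
    refine h.not_square hD (x : G) ?_
    rw [F.d_mul_m, ← hx]; rfl

variable (F : Frame h)

/-- first case of the uniqueness of the two members -/
theorem Frame.split_one {v : Vec K} (hv : IsPt v) {e : G} (he : e ∈ conjugatesOf d)
    (hde : Commute d e) (hu : Commute e (d * F.m v)) (heu : e * (d * F.m v) ∈ conjugatesOf d) :
    e = d ∨ e = F.m v := by
  rcases F.surj he hde with q | ⟨w, hw, rfl⟩
  · exact Or.inl q
  right
  by_cases hs : SamePt w v
  · exact (F.m_eq hw hv).mpr hs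
  exfalso
  have hwv : hb w v = 0 := by
    have := (hde.symm).mul_right hu
    rw [← mul_assoc, h.dd, one_mul] at this
    exact (F.m_comm hw hv).mp this
  have hC : F.m w * (d * F.m v) ∈ Cz d :=
    mul_mem (F.mem_cz w) (mul_mem (dc d).2 (F.mem_cz v))
  have eπ : F.π ⟨_, hC⟩ = F.π (F.Y w * F.Y v) := by
    rw [show (⟨_, hC⟩ : ↥(Cz d)) = ⟨F.m w, F.mem_cz w⟩ * (dc d * ⟨F.m v, F.mem_cz v⟩) from rfl,
      map_mul, map_mul, map_mul, F.π_m hw, F.π_m hv, F.cls.ext.π_d h.hK, one_mul,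
      F.cls.img w hw, F.cls.img v hv]
  rcases F.surj heu (comm_of_mem hC) with q | ⟨z, hz, q⟩
  · refine F.cls.pair_img_ne_one h.hK hw hv hs (eπ.symm.trans ?_)
    rw [show (⟨_, hC⟩ : ↥(Cz d)) = dc d from Subtype.ext q, F.cls.ext.π_d h.hK]
  · refine F.cls.pair_img_ne_ptv h.hK hw hv hz hwv hs (eπ.symm.trans ?_)
    rw [show (⟨_, hC⟩ : ↥(Cz d)) = ⟨F.m z, F.mem_cz z⟩ from Subtype.ext q, F.π_m hz, F.cls.img z hz]

/-- second case of the uniqueness of the two members -/
theorem Frame.split_two {u1 u2 : Vec K} (h1 : IsPt u1) (h2 : IsPt u2) (h12 : hb u1 u2 = 0)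
    (hs : ¬ SamePt u1 u2) {e : G} (he : e ∈ conjugatesOf d) (hde : Commute d e)
    (hu : Commute e (F.m u1 * F.m u2)) (heu : e * (F.m u1 * F.m u2) ∈ conjugatesOf d) :
    e = F.m u1 ∨ e = F.m u2 := by
  have hC : e * (F.m u1 * F.m u2) ∈ Cz d :=
    mul_mem (mem_cent hde) (mul_mem (F.mem_cz u1) (F.mem_cz u2))
  have eπ : F.π ⟨_, hC⟩ = F.π ⟨e, mem_cent hde⟩ * F.π (F.Y u1 * F.Y u2) := by
    rw [show (⟨_, hC⟩ : ↥(Cz d)) =
      ⟨e, mem_cent hde⟩ * (⟨F.m u1, F.mem_cz u1⟩ * ⟨F.m u2, F.mem_cz u2⟩) from rfl,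
      map_mul, map_mul, map_mul, F.π_m h1, F.π_m h2, F.cls.img u1 h1, F.cls.img u2 h2]
  have eR : F.π ⟨_, hC⟩ = 1 ∨ ∃ z, IsPt z ∧ e * (F.m u1 * F.m u2) = F.m z ∧
      F.π ⟨_, hC⟩ = F.π (F.Y z) := by
    rcases F.surj heu (comm_of_mem hC) with q | ⟨z, hz, q⟩
    · left; rw [show (⟨_, hC⟩ : ↥(Cz d)) = dc d from Subtype.ext q, F.cls.ext.π_d h.hK]
    · exact Or.inr ⟨z, hz, q, by
        rw [show (⟨_, hC⟩ : ↥(Cz d)) = ⟨F.m z, F.mem_cz z⟩ from Subtype.ext q, F.π_m hz,
          F.cls.img z hz]⟩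
  rcases F.surj he hde with q | ⟨w, hw, rfl⟩
  · exfalso
    rw [show F.π ⟨e, mem_cent hde⟩ = 1 by
      rw [show (⟨e, mem_cent hde⟩ : ↥(Cz d)) = dc d from Subtype.ext q, F.cls.ext.π_d h.hK], one_mul]
      at eπ
    rcases eR with r | ⟨z, hz, -, r⟩
    · exact F.cls.pair_img_ne_one h.hK h1 h2 hs (eπ.symm.trans r)
    · exact F.cls.pair_img_ne_ptv h.hK h1 h2 hz h12 hs (eπ.symm.trans r)
  rw [F.π_m hw] at eπ
  have ew : F.π (F.Y u1 * F.Y u2) = ptv h.hK w * F.π ⟨_, hC⟩ := by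
    rw [eπ, ← mul_assoc, ptv_mul_self, one_mul]
  rcases eR with r | ⟨z, hz, q, r⟩
  · exfalso
    refine F.cls.pair_img_ne_ptv h.hK h1 h2 hw h12 hs ?_
    rw [ew, r, mul_one, F.cls.img w hw]
  have hwz : hb w z = 0 := (F.m_comm hw hz).mp (by
    rw [← q]; exact (Commute.refl (F.m w)).mul_right hu)
  have hs' : ¬ SamePt w z := fun hs' => by
    have e0 := ((F.m_eq hw hz).mpr hs').trans q.symm
    have h0 : F.m u1 * F.m u2 = 1 := mul_left_cancel (e0.symm.trans (mul_one _).symm)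
    refine hs ((F.m_eq h1 h2).mp ?_)
    calc F.m u1 = F.m u1 * (F.m u2 * F.m u2) := by rw [F.m_sq h2, mul_one]
      _ = F.m u2 := by rw [← mul_assoc, h0, one_mul]
  rw [r, F.cls.img z hz, map_mul, F.cls.img u1 h1, F.cls.img u2 h2] at ew
  simp only [ptv, ← QuotientGroup.mk_mul] at ew
  rcases pair_unique h.hK h1 h2 hw hz h12 hwz hs hs' (mk_inj_of_sq h.hK (PtClass.pair_sq h.hK h1 h12)
    (PtClass.pair_sq h.hK hw hwz) ew) with ⟨t, -⟩ | ⟨-, t⟩
  · left
    rw [Frame.m, Frame.m, F.cls.eq_of_ptv h.hK h1 hw (congrArg QuotientGroup.mk t)]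
  · right
    rw [Frame.m, Frame.m, F.cls.eq_of_ptv h.hK h2 hw (congrArg QuotientGroup.mk t)]

omit [Finite G] in
theorem comm_other {a b e : G} (ha : a * a = 1) (hea : Commute e a) (hu : Commute e (a * b)) :
    Commute e b := by
  have := hea.mul_right hu
  rwa [← mul_assoc, ha, one_mul] at this

/-- the uniqueness, with a common commuting member -/
theorem Hyp.pair_unique_of_common (h : Hyp K d) {a b e f : G} (ha : a ∈ conjugatesOf d)
    (hb : b ∈ conjugatesOf d) (hf : f ∈ conjugatesOf d) (he : e ∈ conjugatesOf d) (hab : a ≠ b)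
    (cab : Commute a b) (cfa : Commute f a) (cfb : Commute f b) (cfe : Commute f e)
    (hu : Commute e (a * b)) (heu : e * (a * b) ∈ conjugatesOf d) : e = a ∨ e = b := by
  by_cases hfa : f = a
  · subst hfa
    obtain ⟨hA, hDA⟩ := h.of_mem ha
    obtain ⟨F⟩ := hA.frame
    obtain ⟨v, hv, rfl⟩ := F.nb_surj ⟨hDA.symm ▸ hb, hab.symm, cab⟩
    exact F.split_one hv (hDA.symm ▸ he) cfe hu (hDA.symm ▸ heu)
  by_cases hfb : f = b
  · subst hfb
    obtain ⟨hA, hDA⟩ := h.of_mem hb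
    obtain ⟨F⟩ := hA.frame
    obtain ⟨v, hv, rfl⟩ := F.nb_surj ⟨hDA.symm ▸ ha, hab, cab.symm⟩
    rw [cab.eq] at hu heu
    exact (F.split_one hv (hDA.symm ▸ he) cfe hu (hDA.symm ▸ heu)).symm
  obtain ⟨hA, hDA⟩ := h.of_mem hf
  obtain ⟨F⟩ := hA.frame
  obtain ⟨u1, h1, rfl⟩ := F.nb_surj ⟨hDA.symm ▸ ha, Ne.symm hfa, cfa⟩
  obtain ⟨u2, h2, rfl⟩ := F.nb_surj ⟨hDA.symm ▸ hb, Ne.symm hfb, cfb⟩
  exact F.split_two h1 h2 ((F.m_comm h1 h2).mp cab) (fun q => hab ((F.m_eq h1 h2).mpr q))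
    (hDA.symm ▸ he) cfe hu (hDA.symm ▸ heu)

omit [Finite G] in
/-- in an odd dihedral group the two generators are conjugate -/
theorem odd_conj {x y : G} (hx : x * x = 1) (hy : y * y = 1) {j : ℕ}
    (hj : (x * y) ^ (2 * j + 1) = 1) : (x * y) ^ j * x * ((x * y) ^ j)⁻¹ = y := by
  have h1 := hj
  rw [odd_pow_eq hx hy j] at h1
  have h2 : ((x * y) ^ j)⁻¹ * y * (x * y) ^ j = x := by
    have := eq_inv_of_mul_eq_one_right h1
    rwa [inv_eq_of_mul_eq_one_left hx] at this
  calc (x * y) ^ j * x * ((x * y) ^ j)⁻¹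
      = (x * y) ^ j * (((x * y) ^ j)⁻¹ * y * (x * y) ^ j) * ((x * y) ^ j)⁻¹ := by rw [h2]
    _ = y := by group

omit [Finite G] in
/-- the involution in a dihedral group of twice odd order is central -/
theorem half_central {f x : G} (hf : f * f = 1) (hx : x * x = 1) {m : ℕ}
    (hm : (f * x) ^ (2 * m) = 1) : Commute x ((f * x) ^ m) := by
  have hv : ((f * x) ^ m)⁻¹ = (f * x) ^ m :=
    inv_eq_of_mul_eq_one_left (by rw [← pow_add, ← two_mul, hm])
  have e : x * (f * x) * x⁻¹ = (f * x)⁻¹ := by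
    rw [mul_inv_rev, inv_eq_of_mul_eq_one_left hf, inv_eq_of_mul_eq_one_left hx, mul_assoc,
      mul_assoc f, hx, mul_one]
  have := congrArg (· ^ m) e
  simp only [conj_pow, inv_pow, hv] at this
  exact mul_inv_eq_iff_eq_mul.mp this

/-- the centralised transposition is an even product in a plane -/
theorem Frame.d_even {P Q : Fin 3 → Vec K} (p : Plane P Q) :
    dc d ∈ Subgroup.closure {y | ∃ v, IsPt v ∧ v ∈ Submodule.span K (Set.range P) ∧ y = F.Y v} := by
  obtain ⟨T, U, T', U', t, t', htw⟩ := F.cls.exists_twist h.hK h.perf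
  obtain ⟨g, c, hc, g0, g1, g2⟩ := t.move h.hK p
  obtain ⟨k, hk⟩ := F.cls.ext.surj (QuotientGroup.mk g)
  set R : Fin 3 → Vec K := fun i => act g (T' i)
  have r : Plane R (fun i => act g (U' i)) := t'.map g
  have eT : ∀ {A B : Fin 3 → Vec K}, Plane A B → k * tri F.Y A * k⁻¹ = tri F.Y (fun i => act g (A i)) := by
    intro A B a
    simp only [tri, ← F.cls.conj_act h.hK hk (a.pt _)]
    group
  have e2 : F.Y (act g (T 2)) = F.Y (P 2) := by rw [g2, F.cls.smul h.hK (p.pt 2) hc]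
  have eP : k * tri F.Y T * k⁻¹ = tri F.Y P := by
    rw [eT t]
    simp only [tri, g0, g1, e2]
  have eR : tri F.Y R = tri F.Y P * dc d := by
    rw [← eT t', htw, ← eP]
    calc k * (tri F.Y T * dc d) * k⁻¹ = k * tri F.Y T * (dc d * k⁻¹) := by group
      _ = _ := by rw [(F.cls.ext.cen k⁻¹).eq]; group
  have hRm : ∀ i, R i ∈ Submodule.span K (Set.range P) := by
    intro i
    refine mem_of_range_three h.hK r (fun x => ?_) i
    have eπ := congrArg F.π eR
    rw [map_mul, F.cls.ext.π_d h.hK, mul_one, F.cls.img_tri h.hK r, F.cls.img_tri h.hK p] at eπ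
    rw [mk_inj_of_sq h.hK (PtClass.tri_sq h.hK r) (PtClass.tri_sq h.hK p) eπ,
      act_triple h.hK (p.orth 0 0) (p.orth 1 1) (p.orth 2 2) (p.orth 0 1) (p.orth 0 2) (p.orth 1 2)]
    refine Submodule.add_mem _ (Submodule.add_mem _ ?_ ?_) ?_ <;>
      exact Submodule.smul_mem _ _ (Submodule.subset_span ⟨_, rfl⟩)
  have hY : ∀ v, IsPt v → v ∈ Submodule.span K (Set.range P) →
      F.Y v ∈ Subgroup.closure {y | ∃ v, IsPt v ∧ v ∈ Submodule.span K (Set.range P) ∧ y = F.Y v} :=
    fun v hv hm => Subgroup.subset_closure ⟨v, hv, hm, rfl⟩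
  have hP : ∀ i, P i ∈ Submodule.span K (Set.range P) := fun i => Submodule.subset_span ⟨i, rfl⟩
  rw [show dc d = (tri F.Y P)⁻¹ * tri F.Y R by rw [eR]; group]
  exact mul_mem (inv_mem (mul_mem (mul_mem (hY _ (p.pt 0) (hP 0)) (hY _ (p.pt 1) (hP 1)))
      (hY _ (p.pt 2) (hP 2))))
    (mul_mem (mul_mem (hY _ (r.pt 0) (hRm 0)) (hY _ (r.pt 1) (hRm 1))) (hY _ (r.pt 2) (hRm 2)))

/-- a member splitting a pair commutes with the first factor -/
theorem Frame.split_comm {v : Vec K} (hv : IsPt v) {x : G} (hx : x ∈ conjugatesOf d)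
    (hu : Commute x (d * F.m v)) (hxu : x * (d * F.m v) ∈ conjugatesOf d) : Commute x d := by
  by_contra hxd
  obtain ⟨P, Q, p, p0⟩ := exists_plane_mem h.hK hv
  set u := d * F.m v with hudef
  have hbD := F.m_mem hv
  have hd0 : d ∈ conjugatesOf d := mem_conjugatesOf_self
  have hne : d ≠ F.m v := (F.m_ne hv).1.symm
  have hxb : ¬ Commute x (F.m v) := fun q => hxd (by
    have := hu.mul_right q
    rwa [hudef, mul_assoc, F.m_sq hv, mul_one] at this)
  have key : ∀ w, IsPt w → w ∈ Submodule.span K (Set.range P) → Commute x (F.Y w : G) := by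
    intro w hw hwm
    have hYw : (F.Y w : G) = d * F.m w := (F.d_mul_m w).symm
    by_cases hwv : SamePt w v
    · rw [hYw, (F.m_eq hw hv).mpr hwv]; exact hu
    set f := F.m w with hf
    have hfD := F.m_mem hw
    have cdf := F.comm_d w
    have cfb : Commute f (F.m v) := (F.m_comm hw hv).mpr
      (p.hb_plane h.hK hwm (p0 ▸ Submodule.subset_span ⟨0, rfl⟩))
    have hfd : f ≠ d := (F.m_ne hw).1
    have hfb : f ≠ F.m v := fun q => hwv ((F.m_eq hw hv).mp q)
    have cfu : Commute f u := cdf.symm.mul_right cfb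
    have hf2 : f * f = 1 := F.m_sq hw
    have hx2 := sq_of_conj h.dd hx
    have hxf : ¬ Commute f x := fun q => by
      rcases h.pair_unique_of_common hd0 hbD hfD hx hne (F.comm_d v) cdf.symm cfb q hu hxu with r | r
      · exact hxd (r ▸ Commute.refl d)
      · exact hxb (r ▸ Commute.refl _)
    obtain ⟨j, hj⟩ := h.order_shape hfD hx
    -- the odd case
    have hodd : (f * x) ^ (2 * j + 1) ≠ 1 := by
      intro e
      set c := (f * x) ^ j with hc
      have hcu : Commute c u := (cfu.mul_left hu).pow_left j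
      have ec : c * f * c⁻¹ = x := odd_conj hf2 hx2 e
      have ecu : c * u * c⁻¹ = u := by rw [hcu.eq, mul_inv_cancel_right]
      have hfu : f * u ∈ conjugatesOf d := (mem_D_iff c).mp (by
        rw [show c * (f * u) * c⁻¹ = (c * f * c⁻¹) * (c * u * c⁻¹) by group, ec, ecu]
        exact hxu)
      rcases h.pair_unique_of_common hd0 hbD hd0 hfD hne (F.comm_d v) (Commute.refl d) (F.comm_d v)
        cdf cfu hfu with r | r
      exacts [hfd r, hfb r]
    set g := ((f * x) ^ j)⁻¹ * x * (f * x) ^ j with hg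
    have evg : (f * x) ^ (2 * j + 1) = f * g := odd_pow_eq hf2 hx2 j
    have hgD : g ∈ conjugatesOf d := by simpa using mem_D_conj ((f * x) ^ j)⁻¹ hx
    have cfg : Commute f g := comm_of_sq_mul hf2 (sq_of_conj h.dd hgD) (by
      rw [← evg, ← pow_add, ← two_mul, hj])
    have hcu : Commute ((f * x) ^ j) u := (cfu.mul_left hu).pow_left j
    have cgu : Commute g u := ((hcu.inv_left).mul_left hu).mul_left hcu
    have hgu : g * u ∈ conjugatesOf d := by
      have := mem_D_conj ((f * x) ^ j)⁻¹ hxu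
      rwa [show ((f * x) ^ j)⁻¹ * (x * u) * ((f * x) ^ j)⁻¹⁻¹ =
        ((f * x) ^ j)⁻¹ * x * (u * (f * x) ^ j) by group, ← hcu.eq,
        show ((f * x) ^ j)⁻¹ * x * ((f * x) ^ j * u) = g * u by rw [hg]; group] at this
    have hxv : Commute x (f * g) := evg ▸ half_central hf2 hx2 hj
    rw [hYw, cdf.eq]
    rcases h.pair_unique_of_common hd0 hbD hfD hgD hne (F.comm_d v) cdf.symm cfb cfg cgu hgu with r | r
    · rwa [r] at hxv
    · rw [r] at hxv
      have := hxv.mul_right hu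
      rwa [hudef, (F.comm_d v).eq, show f * F.m v * (F.m v * d) = f * (F.m v * F.m v) * d by group,
        F.m_sq hv, mul_one] at this
  refine hxd ?_
  have hle : Subgroup.closure {y | ∃ w, IsPt w ∧ w ∈ Submodule.span K (Set.range P) ∧ y = F.Y w} ≤
      (Subgroup.centralizer ({x} : Set G)).comap (Cz d).subtype := by
    rw [Subgroup.closure_le]
    rintro _ ⟨w, hw, hwm, rfl⟩
    exact mem_cent (key w hw hwm)
  exact comm_of_mem (hle (F.d_even p))

/-- the two factors of a pair are the only members splitting it -/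
theorem Hyp.pair_split (h : Hyp K d) {a b e : G} (ha : a ∈ conjugatesOf d) (hb : b ∈ conjugatesOf d)
    (he : e ∈ conjugatesOf d) (hab : a ≠ b) (cab : Commute a b) (hu : Commute e (a * b))
    (heu : e * (a * b) ∈ conjugatesOf d) : e = a ∨ e = b := by
  obtain ⟨hA, hDA⟩ := h.of_mem ha
  obtain ⟨F⟩ := hA.frame
  obtain ⟨v, hv, rfl⟩ := F.nb_surj ⟨hDA.symm ▸ hb, hab.symm, cab⟩
  have hea := F.split_comm hv (hDA.symm ▸ he) hu (hDA.symm ▸ heu)
  exact h.pair_unique_of_common ha hb ha he hab cab (Commute.refl a) cab hea.symm hu heu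

/-- a member centralising a pair centralises both factors -/
theorem Hyp.pair_cent (h : Hyp K d) {a b y : G} (ha : a ∈ conjugatesOf d) (hb : b ∈ conjugatesOf d)
    (hy : y ∈ conjugatesOf d) (hab : a ≠ b) (cab : Commute a b) (hu : Commute y (a * b)) :
    Commute y a ∧ Commute y b := by
  have hy2 := sq_of_conj h.dd hy
  have ha2 := sq_of_conj h.dd ha
  have hyi := inv_eq_of_mul_eq_one_left hy2
  suffices hya : Commute y a from ⟨hya, comm_other ha2 hya hu⟩
  have he : y * a * y⁻¹ ∈ conjugatesOf d := mem_D_conj y ha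
  have hfix : y * (a * b) * y⁻¹ = a * b := by rw [hu.eq, mul_inv_cancel_right]
  have hsplit := h.pair_split ha hb he hab cab (by
      have : Commute a (a * b) := (Commute.refl a).mul_right cab
      have := (commute_conj (g := y)).mpr this
      rwa [hfix] at this)
    (by
      rw [show y * a * y⁻¹ * (a * b) = y * a * y⁻¹ * (y * (a * b) * y⁻¹) by rw [hfix],
        show y * a * y⁻¹ * (y * (a * b) * y⁻¹) = y * (a * a * b) * y⁻¹ by group, ha2, one_mul]
      exact mem_D_conj y hb)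
  rcases hsplit with e | e
  · exact mul_inv_eq_iff_eq_mul.mp e
  · refine h.comm_of_two_pow hy ha (k := 2) ?_
    rw [hyi] at e
    have eu : y * a * (y * a) = a * b * 1 := by
      rw [mul_one, show y * a * (y * a) = y * a * y * a by group, e, cab.eq]
    calc (y * a) ^ 2 ^ 2 = y * a * (y * a) * (y * a * (y * a)) := by
          rw [show (2 : ℕ) ^ 2 = 2 * 2 from rfl, pow_mul, pow_two, pow_two]
      _ = 1 := by rw [eu, mul_one, sq_mul_of_comm ha2 (sq_of_conj h.dd hb) cab]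

/-- members that do not commute have odd product -/
theorem Hyp.odd_product (h : Hyp K d) {x y : G} (hx : x ∈ conjugatesOf d) (hy : y ∈ conjugatesOf d)
    (hn : ¬ Commute x y) : ∃ j : ℕ, (x * y) ^ (2 * j + 1) = 1 := by
  obtain ⟨j, hj⟩ := h.order_shape hx hy
  refine ⟨j, ?_⟩
  by_contra hne
  have hx2 := sq_of_conj h.dd hx
  have hy2 := sq_of_conj h.dd hy
  set g := ((x * y) ^ j)⁻¹ * y * (x * y) ^ j
  have hg : g ∈ conjugatesOf d := by simpa using mem_D_conj ((x * y) ^ j)⁻¹ hy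
  have e : (x * y) ^ (2 * j + 1) = x * g := odd_pow_eq hx2 hy2 j
  have hxg : x ≠ g := fun q => hne (by rw [e, ← q, hx2])
  have cxg : Commute x g := comm_of_sq_mul hx2 (sq_of_conj h.dd hg) (by
    rw [← e, ← pow_add, ← two_mul, hj])
  exact hn (h.pair_cent hx hg hy hxg cxg (e ▸ half_central hx2 hy2 hj)).1.symm

/-- members that do not commute are conjugate inside the centraliser of what centralises both -/
theorem Hyp.conj_in (h : Hyp K d) {x y : G} (hx : x ∈ conjugatesOf d) (hy : y ∈ conjugatesOf d)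
    (hn : ¬ Commute x y) :
    ∃ c : G, c * x * c⁻¹ = y ∧ ∀ v, Commute x v → Commute y v → Commute c v := by
  obtain ⟨j, hj⟩ := h.odd_product hx hy hn
  exact ⟨(x * y) ^ j, odd_conj (sq_of_conj h.dd hx) (sq_of_conj h.dd hy) hj,
    fun v hxv hyv => (hxv.mul_left hyv).pow_left j⟩

/-- products of three independent members are not pairs -/
theorem Frame.tri_not_pair {P Q : Fin 3 → Vec K} (p : Plane P Q) {R S : Fin 3 → Vec K}
    (r : Plane R S) (hR : ∀ i, R i ∈ Submodule.span K (Set.range P)) {x : ↥(Cz d)}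
    (hx : F.π x = F.π (tri F.Y R)) (hxA : (x : G) ∈ F.pl p) : ¬ IsPair d (x : G) := by
  rintro ⟨a, ha, b, hb, hab, cab, e⟩
  obtain ⟨hc, -, -⟩ := F.pl_elem p
  have hall : ∀ f ∈ mset d (F.pl p), Commute f a ∧ Commute f b := fun f hf =>
    h.pair_cent ha hb hf.2 hab cab (e ▸ hc f hf.1 _ hxA)
  have hin : ∀ z ∈ conjugatesOf d, (∀ f ∈ mset d (F.pl p), Commute f z) → z ∈ mset d (F.pl p) := by
    intro z hz hall
    refine ⟨F.norm_mem p hz (Subgroup.mem_normalizer_fintype ?_), hz⟩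
    intro y hy
    have hyz : Commute z y := by
      have hle : F.pl p ≤ Subgroup.centralizer ({z} : Set G) := by
        rw [← F.pl_generated p, Subgroup.closure_le]
        exact fun f hf => mem_cent (hall f hf).symm
      exact comm_of_mem (hle hy)
    rw [hyz.eq, mul_inv_cancel_right]
    exact hy
  obtain ⟨t1, t2, t3⟩ := F.cls.tri_not_small h.hK r
  rcases (F.mem_pl_D p).mp (hin a ha fun f hf => (hall f hf).1) with rfl | ⟨u, hu, hum, rfl⟩ <;>
    rcases (F.mem_pl_D p).mp (hin b hb fun f hf => (hall f hf).2) with rfl | ⟨v, hv, hvm, rfl⟩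
  · exact hab rfl
  · exact t2 v hv (hx.symm.trans (congrArg F.π (Subtype.ext (e.symm.trans (F.d_mul_m v)))))
  · exact t2 u hu (hx.symm.trans (congrArg F.π (Subtype.ext
      (e.symm.trans ((F.comm_d u).symm.eq.trans (F.d_mul_m u))))))
  · exact t3 u v hu hv (p.hb_plane h.hK hum hvm)
      (hx.symm.trans (congrArg F.π (Subtype.ext (e.symm.trans (F.m_mul_m u v)))))

end Cfsg.Agent.H47.TwoU62
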