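import Cfsg.Agent.H47.TwoU62.Perms

/-!
The members normalising a plane subgroup lie in it, a Sylow 2-subgroup of its normaliser is one of
the whole group, and two members generating a 2-group commute.
-/

set_option autoImplicit false

namespace Cfsg.Agent.H47.TwoU62

open Cfsg.Agent.H93

variable {G : Type*} [Group G] [Finite G] {K : Type*} [Field K] [Fintype K] {d : G} {h : Hyp K d}
  (F : Frame h) {P Q : Fin 3 → Vec K} (p : Plane P Q)

omit [Finite G] in
theorem twoGroup_of_sq {A : Subgroup G} (hs : ∀ x ∈ A, x * x = 1) : IsPGroup 2 ↥A := fun g =>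
  ⟨1, Subtype.ext (by rw [SubmonoidClass.coe_pow, pow_one, pow_two]; exact hs _ g.2)⟩

omit [Finite G] in
theorem twoGroup_zpowers {x : G} (hx : x * x = 1) : IsPGroup 2 ↥(Subgroup.zpowers x) :=
  twoGroup_of_sq fun y hy => by
    obtain ⟨k, rfl⟩ := Subgroup.mem_zpowers_iff.mp hy
    rw [← zpow_add, ← two_mul, zpow_mul, zpow_two, hx, one_zpow]

/-- a member normalising a plane subgroup lies in it -/
theorem Frame.norm_mem {x : G} (hxD : x ∈ conjugatesOf d)
    (hx : x ∈ Subgroup.normalizer (F.pl p : Set G)) : x ∈ F.pl p := by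
  haveI : Fact (Nat.Prime 2) := ⟨Nat.prime_two⟩
  have hx2 := sq_of_conj h.dd hxD
  obtain ⟨f, ⟨hfA, hfD⟩, hxf⟩ := F.fixes_member p hx hx2
  obtain ⟨hf, hDf⟩ := h.of_mem hfD
  obtain ⟨F'⟩ := hf.frame
  obtain ⟨hc, hs, hcard⟩ := F.pl_elem p
  have hAC : F.pl p ≤ Cz f := fun y hy => mem_cent (hc f hfA y hy)
  set T := Subgroup.zpowers x ⊔ F.pl p with hT
  have hTC : T ≤ Cz f := sup_le (Subgroup.zpowers_le.mpr (mem_cent hxf.symm)) hAC
  have hT2 : IsPGroup 2 ↥T := IsPGroup.to_sup_of_normal_right' (twoGroup_zpowers hx2)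
    (twoGroup_of_sq hs) (Subgroup.zpowers_le.mpr hx)
  obtain ⟨S, hS⟩ := (hT2.of_equiv (Subgroup.subgroupOfEquivOfLe hTC).symm).exists_le_sylow
  obtain ⟨P', Q', p', -, hin, huniq⟩ := F'.cls.sylow_plane hf.hK S
  have hA' : (F.pl p).subgroupOf (Cz f) = prePlane hf.hK F'.π p' :=
    huniq _ (fun y hy => hS (Subgroup.mem_sup_right hy : (y : G) ∈ T))
      (fun y hy z hz => Subtype.ext (hc _ hy _ hz).eq) (fun y hy => Subtype.ext (hs _ hy))
      (by rw [Nat.card_congr (Subgroup.subgroupOfEquivOfLe hAC).toEquiv, hcard])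
  rcases F'.surj (hDf.symm ▸ hxD) hxf.symm with e | ⟨v, hv, e⟩
  · exact e ▸ hfA
  · have hmem : (⟨F'.m v, F'.mem_cz v⟩ : ↥(Cz f)) ∈ prePlane hf.hK F'.π p' :=
      hin _ (hS (show (F'.m v : G) ∈ T from e ▸ Subgroup.mem_sup_left (Subgroup.mem_zpowers x)))
        ⟨v, hv, F'.π_m hv⟩
    rw [← hA'] at hmem
    exact e ▸ hmem

theorem Frame.pl_generated : Subgroup.closure (mset d (F.pl p)) = F.pl p := by
  refine le_antisymm ((Subgroup.closure_le _).mpr fun x hx => hx.1) ?_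
  intro x hx
  obtain ⟨hxC, hx'⟩ := (F.mem_pl p).mp hx
  have hd : d ∈ Subgroup.closure (mset d (F.pl p)) :=
    Subgroup.subset_closure ⟨F.d_pl p, mem_conjugatesOf_self⟩
  have hle : prePlane h.hK F.π p ≤ (Subgroup.closure (mset d (F.pl p))).comap (Cz d).subtype := by
    conv_lhs => rw [F.cls.prePlane_eq h.hK p]
    rw [Subgroup.closure_le]
    rintro _ (rfl | ⟨v, hv, hm, rfl⟩)
    · exact hd
    · show (F.Y v : G) ∈ Subgroup.closure (mset d (F.pl p))
      rw [F.Y_eq]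
      exact mul_mem (Subgroup.subset_closure ((F.mem_pl_D p).mpr (Or.inr ⟨v, hv, hm, rfl⟩))) hd
  exact hle hx'

/-- every 2-subgroup is conjugate into the normaliser of a plane subgroup -/
theorem Frame.two_group_conj {T0 : Subgroup G} (hT0 : IsPGroup 2 ↥T0) :
    ∃ g : G, ∀ x ∈ T0, g * x * g⁻¹ ∈ Subgroup.normalizer (F.pl p : Set G) := by
  haveI : Fact (Nat.Prime 2) := ⟨Nat.prime_two⟩
  set N := Subgroup.normalizer (F.pl p : Set G) with hN
  obtain ⟨hc, hs, -⟩ := F.pl_elem p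
  have hAN : F.pl p ≤ N := Subgroup.le_normalizer
  obtain ⟨S, hAS⟩ := ((twoGroup_of_sq hs).of_equiv
    (Subgroup.subgroupOfEquivOfLe hAN).symm).exists_le_sylow
  set T := (S : Subgroup ↥N).map N.subtype with hT
  have hT2 : IsPGroup 2 ↥T := S.isPGroup'.map N.subtype
  have hTN : T ≤ N := Subgroup.map_subtype_le _
  have hAT : F.pl p ≤ T := fun y hy => ⟨⟨y, hAN hy⟩, hAS hy, rfl⟩
  have hmax : ∀ T' : Subgroup G, IsPGroup 2 ↥T' → T' ≤ N → T ≤ T' → T' ≤ T := by
    intro T' h2 hle hge y hy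
    have hS' := S.is_maximal' (h2.of_equiv (Subgroup.subgroupOfEquivOfLe hle).symm)
      (fun z hz => hge ⟨z, hz, rfl⟩ : (S : Subgroup ↥N) ≤ T'.subgroupOf N)
    exact ⟨⟨y, hle hy⟩, hS' ▸ (hy : (⟨y, hle hy⟩ : ↥N) ∈ T'.subgroupOf N), rfl⟩
  obtain ⟨U, hTU⟩ := hT2.exists_le_sylow
  have hUT : (U : Subgroup G) ≤ T := by
    by_contra hne
    set T' := T.subgroupOf (U : Subgroup G) with hT'
    have hlt : T' < ⊤ := lt_top_iff_ne_top.mpr fun e => hne fun y hy =>
      (e.symm ▸ Subgroup.mem_top _ : (⟨y, hy⟩ : ↥(U : Subgroup G)) ∈ T')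
    have hnil := U.isPGroup'.isNilpotent
    obtain ⟨y, hyN, hyT⟩ := Set.exists_of_ssubset
      (Group.normalizerCondition_of_isNilpotent T' hlt)
    have hyconj : ∀ t ∈ T, (y : G) * t * (y : G)⁻¹ ∈ T := fun t ht =>
      (Subgroup.mem_normalizer_iff.mp hyN ⟨t, hTU ht⟩).mp ht
    have hyN' : (y : G) ∈ N := by
      have hgen : ∀ a ∈ F.pl p, (y : G) * a * (y : G)⁻¹ ∈ F.pl p := by
        intro a ha
        have hle : F.pl p ≤ (F.pl p).comap (MulAut.conj (y : G)).toMonoidHom := by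
          conv_lhs => rw [← F.pl_generated p]
          rw [Subgroup.closure_le]
          intro v hv
          exact F.norm_mem p (mem_D_conj _ hv.2) (hTN (hyconj v (hAT hv.1)))
        exact hle ha
      exact Subgroup.mem_normalizer_fintype hgen
    refine hyT (hmax (T ⊔ Subgroup.zpowers (y : G)) ?_
      (sup_le hTN (Subgroup.zpowers_le.mpr hyN')) le_sup_left
      (Subgroup.mem_sup_right (Subgroup.mem_zpowers _)))
    have hle : T ⊔ Subgroup.zpowers (y : G) ≤ (U : Subgroup G) :=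
      sup_le hTU (Subgroup.zpowers_le.mpr y.2)
    exact (U.isPGroup'.to_subgroup ((T ⊔ Subgroup.zpowers (y : G)).subgroupOf U)).of_equiv
      (Subgroup.subgroupOfEquivOfLe hle)
  obtain ⟨W, hW⟩ := hT0.exists_le_sylow
  obtain ⟨g, hg⟩ := MulAction.exists_smul_eq G W U
  refine ⟨g, fun x hx => hTN (hUT ?_)⟩
  rw [← hg]
  exact ⟨x, hW hx, rfl⟩

/-- a Sylow 2-subgroup sees members in one commutative subgroup -/
theorem Hyp.two_comm (h : Hyp K d) {T : Subgroup G} (hT : IsPGroup 2 ↥T) {a b : G} (ha : a ∈ T)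
    (hb : b ∈ T) (haD : a ∈ conjugatesOf d) (hbD : b ∈ conjugatesOf d) : Commute a b := by
  obtain ⟨F⟩ := h.frame
  obtain ⟨P, Q, p⟩ := exists_plane (F := K) h.hK
  obtain ⟨g, hg⟩ := F.two_group_conj p hT
  exact commute_conj.mp ((F.pl_elem p).1 _ (F.norm_mem p (mem_D_conj g haD) (hg a ha))
    _ (F.norm_mem p (mem_D_conj g hbD) (hg b hb)))

omit [Finite G] in
/-- two involutions whose product has two power order generate a 2-group -/
theorem dihedral_two {a b : G} (ha : a * a = 1) (hb : b * b = 1) {k : ℕ} (h : (a * b) ^ 2 ^ k = 1) :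
    IsPGroup 2 ↥(Subgroup.zpowers a ⊔ Subgroup.zpowers (a * b)) ∧
      b ∈ Subgroup.zpowers a ⊔ Subgroup.zpowers (a * b) := by
  constructor
  · refine IsPGroup.to_sup_of_normal_right' (twoGroup_zpowers ha) ?_ ?_
    · intro ⟨y, hy⟩
      obtain ⟨i, rfl⟩ := Subgroup.mem_zpowers_iff.mp hy
      refine ⟨k, Subtype.ext ?_⟩
      rw [SubmonoidClass.coe_pow]
      show ((a * b) ^ i) ^ 2 ^ k = 1
      rw [← zpow_natCast, ← zpow_mul, mul_comm i, zpow_mul, zpow_natCast, h, one_zpow]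
    · rw [Subgroup.zpowers_le, Subgroup.mem_normalizer_iff]
      intro y
      have hinv : ∀ i : ℤ, a * (a * b) ^ i * a⁻¹ = (a * b) ^ (-i) := fun i => by
        rw [← conj_zpow, inv_eq_of_mul_eq_one_left ha, zpow_neg, ← inv_zpow]
        congr 1
        rw [mul_inv_rev, inv_eq_of_mul_eq_one_left ha, inv_eq_of_mul_eq_one_left hb, ← mul_assoc,
          ha, one_mul]
      constructor
      · rintro ⟨i, rfl⟩; exact ⟨-i, (hinv i).symm⟩
      · rintro ⟨i, hi⟩
        refine ⟨-i, ?_⟩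
        calc (a * b) ^ (-i) = a * (a * b) ^ i * a⁻¹ := (hinv i).symm
          _ = a * (a * y * a⁻¹) * a⁻¹ := congrArg (fun t => a * t * a⁻¹) hi
          _ = a * a * y * (a * a)⁻¹ := by group
          _ = y := by rw [ha]; group
  · have : a * (a * b) ∈ Subgroup.zpowers a ⊔ Subgroup.zpowers (a * b) :=
      mul_mem (Subgroup.mem_sup_left (Subgroup.mem_zpowers a))
        (Subgroup.mem_sup_right (Subgroup.mem_zpowers (a * b)))
    rwa [← mul_assoc, ha, one_mul] at this

theorem Hyp.comm_of_two_pow (h : Hyp K d) {a b : G} (haD : a ∈ conjugatesOf d)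
    (hbD : b ∈ conjugatesOf d) {k : ℕ} (hk : (a * b) ^ 2 ^ k = 1) : Commute a b := by
  obtain ⟨h2, hb⟩ := dihedral_two (sq_of_conj h.dd haD) (sq_of_conj h.dd hbD) hk
  exact h.two_comm h2 (Subgroup.mem_sup_left (Subgroup.mem_zpowers a)) hb haD hbD

omit [Finite G] in
/-- odd powers of a product of two involutions are again products with a conjugate -/
theorem odd_pow_eq {a b : G} (ha : a * a = 1) (hb : b * b = 1) (j : ℕ) :
    (a * b) ^ (2 * j + 1) = a * (((a * b) ^ j)⁻¹ * b * (a * b) ^ j) := by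
  have hinv : ∀ i : ℕ, a * (a * b) ^ i * a = ((a * b) ^ i)⁻¹ := by
    intro i
    induction i with
    | zero => simp [ha]
    | succ i ih =>
      rw [pow_succ, mul_inv_rev, ← ih, mul_inv_rev, inv_eq_of_mul_eq_one_left hb,
        inv_eq_of_mul_eq_one_left ha]
      calc a * ((a * b) ^ i * (a * b)) * a = a * (a * b) ^ i * a * (b * a) := by group
        _ = b * a * (a * (a * b) ^ i * a) := by
          rw [ih, show b * a = (a * b)⁻¹ by
            rw [mul_inv_rev, inv_eq_of_mul_eq_one_left hb, inv_eq_of_mul_eq_one_left ha],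
            ← mul_inv_rev, ← mul_inv_rev, ← pow_succ, ← pow_succ']
  calc (a * b) ^ (2 * j + 1) = (a * b) ^ j * (a * b) * (a * b) ^ j := by
        rw [show 2 * j + 1 = j + 1 + j by omega, pow_add, pow_succ]
    _ = (a * a) * (a * b) ^ j * a * b * (a * b) ^ j := by rw [ha]; group
    _ = a * (a * (a * b) ^ j * a) * b * (a * b) ^ j := by group
    _ = _ := by rw [hinv]; group

/-- the product of two members has order twice an odd number, or odd -/
theorem Hyp.order_shape (h : Hyp K d) {a b : G} (haD : a ∈ conjugatesOf d)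
    (hbD : b ∈ conjugatesOf d) : ∃ j : ℕ, (a * b) ^ (2 * (2 * j + 1)) = 1 := by
  have ha := sq_of_conj h.dd haD
  have hb := sq_of_conj h.dd hbD
  obtain ⟨k, m, hm, hn⟩ := Nat.exists_eq_two_pow_mul_odd (n := orderOf (a * b))
    (orderOf_pos (a * b)).ne'
  obtain ⟨j, rfl⟩ := hm
  set c := (a * b) ^ j with hc
  have hy : c⁻¹ * b * c ∈ conjugatesOf d := by simpa using mem_D_conj c⁻¹ hbD
  have hk : (a * (c⁻¹ * b * c)) ^ 2 ^ k = 1 := by
    rw [← odd_pow_eq ha hb, ← pow_mul, mul_comm, ← hn, pow_orderOf_eq_one]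
  have hcom := h.comm_of_two_pow haD hy hk
  refine ⟨j, ?_⟩
  rw [mul_comm, pow_mul, odd_pow_eq ha hb, hcom.mul_pow, pow_two, pow_two, ha,
    sq_of_conj h.dd hy, one_mul]

end Cfsg.Agent.H47.TwoU62
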