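import Mathlib

/-!
An invertible three by three matrix over a field with four elements has no sign.
-/

set_option autoImplicit false

namespace Cfsg.Agent.H47.TwoU62

open Matrix

variable {F : Type*} [Field F] [Fintype F]

theorem units_cube_eq_one {u : ℤˣ} (h : u ^ 3 = 1) : u = 1 := by
  rcases Int.units_eq_one_or u with rfl | rfl
  · rfl
  · exact absurd h (by decide)

/-- there is no homomorphism from `GL 3 F` onto the signs -/
theorem gl_no_sign (hF : Fintype.card F = 4) (χ : GL (Fin 3) F →* ℤˣ) (M : GL (Fin 3) F) :
    χ M = 1 := by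
  classical
  let f : Matrix (Fin 3) (Fin 3) F → ℤˣ := fun A =>
    if h : A.det ≠ 0 then χ (GeneralLinearGroup.mkOfDetNeZero A h) else 1
  have hf : ∀ N : GL (Fin 3) F, f (N : Matrix (Fin 3) (Fin 3) F) = χ N := by
    intro N
    have hd : (N : Matrix (Fin 3) (Fin 3) F).det ≠ 0 :=
      ((Matrix.isUnit_iff_isUnit_det _).mp N.isUnit).ne_zero
    simp only [f, dif_pos hd]
    exact congrArg χ (Units.ext rfl)
  have hmul : ∀ A B : Matrix (Fin 3) (Fin 3) F, A.det ≠ 0 → B.det ≠ 0 → f (A * B) = f A * f B := by
    intro A B hA hB
    have hAB : (A * B).det ≠ 0 := by rw [Matrix.det_mul]; exact mul_ne_zero hA hB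
    simp only [f, dif_pos hA, dif_pos hB, dif_pos hAB, ← map_mul]
    exact congrArg χ (Units.ext rfl)
  have hone : f 1 = 1 := by
    have := hf 1
    rw [Units.val_one, map_one] at this
    exact this
  have h4 : ∀ x : F, x ^ 4 = x := fun x => by rw [← hF]; exact FiniteField.pow_card x
  have hcube : ∀ x : F, x ≠ 0 → x ^ 3 = 1 := fun x hx =>
    mul_left_cancel₀ hx (by rw [mul_one, ← pow_succ', h4])
  have hdiag : ∀ D : Fin 3 → F, (diagonal D).det ≠ 0 → f (diagonal D) = 1 := by
    intro D hD
    have hD' : ∀ i, D i ≠ 0 := fun i e => hD (by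
      rw [det_diagonal]; exact Finset.prod_eq_zero (Finset.mem_univ i) e)
    apply units_cube_eq_one
    have e : diagonal D * diagonal D * diagonal D = 1 := by
      rw [diagonal_mul_diagonal, diagonal_mul_diagonal, ← diagonal_one]
      congr 1
      funext i
      rw [← hcube _ (hD' i)]; ring
    rw [pow_succ, pow_two, ← hmul _ _ hD hD, ← hmul _ _ (by rw [det_mul]; exact mul_ne_zero hD hD) hD,
      e, hone]
  have h2 : (1 : F) + 1 = 0 := by
    have : CharP F 2 := by
      obtain ⟨p, hp⟩ := CharP.exists F
      obtain ⟨n, hp', hn⟩ := FiniteField.card F p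
      rw [hF] at hn
      have : p ∣ 2 ^ 2 := by rw [show (2 : ℕ) ^ 2 = 4 by norm_num, hn]; exact dvd_pow_self p n.2.ne'
      have := (Nat.prime_dvd_prime_iff_eq hp' Nat.prime_two).mp (hp'.dvd_of_dvd_pow this)
      subst this
      exact hp
    rw [one_add_one_eq_two]; exact CharTwo.two_eq_zero
  obtain ⟨w, hw0, hw1⟩ : ∃ w : F, w ≠ 0 ∧ w ≠ 1 := by
    by_contra hcon
    push_neg at hcon
    have : (Finset.univ : Finset F) ⊆ {0, 1} := fun x _ => by
      by_cases hx : x = 0
      · simp [hx]
      · simp [hcon x hx]
    have := (Finset.card_le_card this).trans Finset.card_le_two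
    simp [hF] at this
  have hwsum : 1 + w + w ^ 2 = 0 := by
    have hz : (w - 1) * (1 + w + w ^ 2) = 0 := by linear_combination hcube w hw0
    exact (mul_eq_zero.mp hz).resolve_left (sub_ne_zero.mpr hw1)
  have htr : ∀ t : TransvectionStruct (Fin 3) F, f t.toMatrix = 1 := by
    intro t
    have hd : ∀ c : F, (transvection t.i t.j c).det ≠ 0 := fun c => by
      rw [det_transvection_of_ne _ _ t.hij]; exact one_ne_zero
    -- scaling a transvection by a diagonal matrix
    have scale : ∀ a : F, a ≠ 0 → ∀ c : F, f (transvection t.i t.j (a * c)) = f (transvection t.i t.j c) := by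
      intro a ha c
      set D : Fin 3 → F := Function.update (fun _ => 1) t.i a with hDdef
      have hDd : (diagonal D).det ≠ 0 := by
        rw [det_diagonal, Finset.prod_ne_zero_iff]
        intro k _
        by_cases hk : k = t.i
        · subst hk; simpa [hDdef] using ha
        · simp [hDdef, hk]
      have e : diagonal D * transvection t.i t.j c = transvection t.i t.j (a * c) * diagonal D := by
        ext k l
        by_cases hk : k = t.i <;> by_cases hl : l = t.j <;>
          simp [hDdef, transvection, diagonal_mul, mul_diagonal, Matrix.add_apply, Matrix.one_apply,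
            Matrix.single, hk, hl, t.hij, Ne.symm t.hij] <;> aesop
      have := congrArg f e
      rw [hmul _ _ hDd (hd c), hmul _ _ (hd _) hDd, hdiag D hDd, one_mul, mul_one] at this
      exact this.symm
    apply units_cube_eq_one
    show f (transvection t.i t.j t.c) ^ 3 = 1
    have hp : ∀ c c' : F, f (transvection t.i t.j c) * f (transvection t.i t.j c') =
        f (transvection t.i t.j (c + c')) := fun c c' => by
      rw [← hmul _ _ (hd c) (hd c'), transvection_mul_transvection_same t.i t.j t.hij]
    calc f (transvection t.i t.j t.c) ^ 3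
        = f (transvection t.i t.j t.c) * f (transvection t.i t.j (w * t.c)) *
            f (transvection t.i t.j (w ^ 2 * t.c)) := by
          rw [scale w hw0, scale (w ^ 2) (pow_ne_zero 2 hw0), pow_succ, pow_two]
      _ = 1 := by
          rw [hp, hp, show t.c + w * t.c + w ^ 2 * t.c = 0 by linear_combination t.c * hwsum,
            transvection_zero, hone]
  rw [← hf M]
  have hdet : (M : Matrix (Fin 3) (Fin 3) F).det ≠ 0 :=
    ((Matrix.isUnit_iff_isUnit_det _).mp M.isUnit).ne_zero
  refine diagonal_transvection_induction_of_det_ne_zero (fun A => f A = 1) _ hdet hdiag htr ?_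
  intro A B hA hB eA eB
  rw [hmul A B hA hB, eA, eB, one_mul]

end Cfsg.Agent.H47.TwoU62
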