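import Cfsg.Agent.H47.TwoU62.Fusion
import Cfsg.Agent.H47.TwoU62.Sign

/-!
The normaliser of a plane subgroup acts on its twenty two members by even permutations, so each of
its involutions fixes one of them.
-/

set_option autoImplicit false

namespace Cfsg.Agent.H47.TwoU62

open Cfsg.Agent.H93 Matrix

variable {G : Type*} [Group G] [Finite G] {K : Type*} [Field K] [Fintype K] {d : G} {h : Hyp K d}
  (F : Frame h) {P Q : Fin 3 → Vec K} (p : Plane P Q)

/-- the vector with given coordinates in a basis -/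
def vec {K : Type*} [Field K] (P : Fin 3 → Vec K) (c : Fin 3 → K) : Vec K := ∑ i, c i • P i

omit [Fintype K] in
theorem vec_mem (c : Fin 3 → K) : vec P c ∈ Submodule.span K (Set.range P) :=
  Submodule.sum_mem _ fun i _ => Submodule.smul_mem _ _ (Submodule.subset_span ⟨i, rfl⟩)

omit [Fintype K] in
theorem vec_smul (t : K) (c : Fin 3 → K) : vec P (t • c) = t • vec P c := by
  simp [vec, Finset.smul_sum, smul_smul]

omit [Fintype K] in
include p in
theorem vec_inj {c c' : Fin 3 → K} (e : vec P c = vec P c') : c = c' :=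
  (Fintype.linearIndependent_iff.mp p.li (c - c') (by
    simpa [vec, sub_smul, Finset.sum_sub_distrib, sub_eq_zero] using e)) |> fun hz =>
      funext fun i => sub_eq_zero.mp (hz i)

include p in
theorem vec_pt (hK : Fintype.card K = 4) {c : Fin 3 → K} (hc : c ≠ 0) : IsPt (vec P c) :=
  ⟨fun e => hc (vec_inj p (e.trans (by simp [vec]))), p.hb_plane hK (vec_mem c) (vec_mem c)⟩

/-- the members of the plane subgroup as a type -/
abbrev Op : Type _ := ↥(mset d (F.pl p))

/-- the graph of the permutation induced by a matrix -/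
def Rel (M : Matrix (Fin 3) (Fin 3) K) (x y : G) : Prop :=
  (x = d ∧ y = d) ∨ ∃ c : Fin 3 → K, c ≠ 0 ∧ x = F.m (vec P c) ∧ y = F.m (vec P (M *ᵥ c))

omit [Finite G] in
theorem mulVec_ne {M : GL (Fin 3) K} {c : Fin 3 → K} (hc : c ≠ 0) :
    (M : Matrix (Fin 3) (Fin 3) K) *ᵥ c ≠ 0 := fun e => hc (by
  have := congrArg (fun v => ((M⁻¹ : GL (Fin 3) K) : Matrix (Fin 3) (Fin 3) K) *ᵥ v) e
  simpa [mulVec_mulVec] using this)

include p in
theorem Rel.total (M : GL (Fin 3) K) (x : Op F p) :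
    ∃ y : Op F p, Rel F (P := P) (M : Matrix (Fin 3) (Fin 3) K) x.1 y.1 := by
  rcases (F.mem_pl_D p).mp x.2 with e | ⟨v, hv, hm, e⟩
  · exact ⟨x, Or.inl ⟨e, e⟩⟩
  · obtain ⟨c, hc⟩ := (Submodule.mem_span_range_iff_exists_fun K).mp hm
    have hc0 : c ≠ 0 := fun q => hv.1 (by rw [← hc, q]; simp)
    refine ⟨⟨F.m (vec P ((M : Matrix (Fin 3) (Fin 3) K) *ᵥ c)), (F.mem_pl_D p).mpr (Or.inr
      ⟨_, vec_pt p h.hK (mulVec_ne hc0), vec_mem _, rfl⟩)⟩, Or.inr ⟨c, hc0, ?_, rfl⟩⟩
    rw [e, vec, hc]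

omit [Finite G] in
include p in
theorem Rel.unique {M : GL (Fin 3) K} {x y y' : G}
    (e : Rel F (P := P) (M : Matrix (Fin 3) (Fin 3) K) x y)
    (e' : Rel F (P := P) (M : Matrix (Fin 3) (Fin 3) K) x y') : y = y' := by
  rcases e with ⟨h1, h2⟩ | ⟨c, hc, h1, h2⟩ <;> rcases e' with ⟨h1', h2'⟩ | ⟨c', hc', h1', h2'⟩
  · rw [h2, h2']
  · exact absurd (h1'.symm.trans h1) (F.m_ne (vec_pt p h.hK hc')).1
  · exact absurd (h1.symm.trans h1') (F.m_ne (vec_pt p h.hK hc)).1
  · obtain ⟨t, ht⟩ := (F.m_eq (vec_pt p h.hK hc) (vec_pt p h.hK hc')).mp (h1.symm.trans h1')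
    have hcc : c' = t • c := vec_inj p (by rw [vec_smul]; exact ht)
    rw [h2, h2', F.m_eq (vec_pt p h.hK (mulVec_ne hc)) (vec_pt p h.hK (mulVec_ne hc'))]
    exact ⟨t, by rw [hcc, mulVec_smul, vec_smul]⟩

omit [Finite G] in
include p in
theorem Rel.comp {M N : GL (Fin 3) K} {x y z : G}
    (e : Rel F (P := P) (N : Matrix (Fin 3) (Fin 3) K) x y)
    (e' : Rel F (P := P) (M : Matrix (Fin 3) (Fin 3) K) y z) :
    Rel F (P := P) ((M * N : GL (Fin 3) K) : Matrix (Fin 3) (Fin 3) K) x z := by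
  rcases e with ⟨h1, h2⟩ | ⟨c, hc, h1, h2⟩
  · exact Or.inl ⟨h1, (Rel.unique F p e' (Or.inl ⟨h2, rfl⟩) : z = d)⟩
  · refine Or.inr ⟨c, hc, h1, ?_⟩
    rw [Units.val_mul, ← mulVec_mulVec]
    exact Rel.unique F p e' (Or.inr ⟨_, mulVec_ne hc, h2, rfl⟩)

/-- the permutation induced by a matrix -/
noncomputable def relFun (M : GL (Fin 3) K) (x : Op F p) : Op F p := (Rel.total F p M x).choose

theorem relFun_eq {M : GL (Fin 3) K} {x y : Op F p}
    (e : Rel F (P := P) (M : Matrix (Fin 3) (Fin 3) K) x.1 y.1) : relFun F p M x = y :=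
  Subtype.ext (Rel.unique F p (Rel.total F p M x).choose_spec e)

theorem relFun_mul (M N : GL (Fin 3) K) (x : Op F p) :
    relFun F p (M * N) x = relFun F p M (relFun F p N x) :=
  relFun_eq F p (Rel.comp F p (Rel.total F p N x).choose_spec
    (Rel.total F p M (relFun F p N x)).choose_spec)

theorem relFun_one (x : Op F p) : relFun F p 1 x = x := by
  refine relFun_eq F p ?_
  rcases (F.mem_pl_D p).mp x.2 with e | ⟨v, hv, hm, e⟩
  · exact Or.inl ⟨e, e⟩
  · obtain ⟨c, hc⟩ := (Submodule.mem_span_range_iff_exists_fun K).mp hm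
    refine Or.inr ⟨c, fun q => hv.1 (by rw [← hc, q]; simp), ?_, ?_⟩
    · rw [e, vec, hc]
    · rw [Units.val_one, one_mulVec, e, vec, hc]

/-- matrices as permutations of the members -/
noncomputable def glPerm : GL (Fin 3) K →* Equiv.Perm (Op F p) where
  toFun M :=
    { toFun := relFun F p M
      invFun := relFun F p M⁻¹
      left_inv := fun x => by rw [← relFun_mul, inv_mul_cancel, relFun_one]
      right_inv := fun x => by rw [← relFun_mul, mul_inv_cancel, relFun_one] }
  map_one' := Equiv.ext (relFun_one F p)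
  map_mul' M N := Equiv.ext (relFun_mul F p M N)

/-- conjugation on the members -/
def conjPerm : ↥(Subgroup.normalizer (F.pl p : Set G)) →* Equiv.Perm (Op F p) where
  toFun n :=
    { toFun := fun x => ⟨n.1 * x.1 * n.1⁻¹, normalizer_mset n.2 x.2⟩
      invFun := fun x => ⟨n.1⁻¹ * x.1 * n.1, by simpa using normalizer_mset (inv_mem n.2) x.2⟩
      left_inv := fun x => Subtype.ext (by simp [mul_assoc])
      right_inv := fun x => Subtype.ext (by simp [mul_assoc]) }
  map_one' := by ext x; simp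
  map_mul' m n := by ext x; simp [mul_assoc]

/-- a centraliser element of the normaliser acts through a matrix -/
theorem conjPerm_gl (n : ↥(Subgroup.normalizer (F.pl p : Set G))) (hn : (n : G) ∈ Cz d) :
    ∃ M : GL (Fin 3) K, conjPerm F p n = glPerm F p M := by
  classical
  set c0 : ↥(Cz d) := ⟨n.1, hn⟩
  obtain ⟨g, hg⟩ := QuotientGroup.mk_surjective (F.π c0)
  have hin : ∀ v, IsPt v → v ∈ Submodule.span K (Set.range P) →
      act g v ∈ Submodule.span K (Set.range P) := by
    intro v hv hm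
    have e := F.conj_act hg.symm hv
    have hz := normalizer_mset n.2 ((F.mem_pl_D p).mpr (Or.inr ⟨v, hv, hm, rfl⟩))
    rcases (F.mem_pl_D p).mp hz with q | ⟨w, hw, hwm, q⟩
    · exact absurd (e.symm.trans q) (F.m_ne (act_pt g hv)).1
    · obtain ⟨t, ht⟩ := (F.m_eq hw (act_pt g hv)).mp (q.symm.trans e)
      rw [ht]; exact Submodule.smul_mem _ _ hwm
  have hcol : ∀ j, ∃ col : Fin 3 → K, vec P col = act g (P j) := fun j =>
    (Submodule.mem_span_range_iff_exists_fun K).mp (hin _ (p.pt j) (Submodule.subset_span ⟨j, rfl⟩))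
  choose col hcol using hcol
  set A : Matrix (Fin 3) (Fin 3) K := Matrix.of fun i j => col j i
  have hA : ∀ c, vec P (A *ᵥ c) = act g (vec P c) := by
    intro c
    have hl : ∀ x, act g x = actL g x := fun x => rfl
    calc vec P (A *ᵥ c) = ∑ j, c j • vec P (col j) := by
          simp only [vec, mulVec, dotProduct, A, Matrix.of_apply, Finset.sum_smul, Finset.smul_sum,
            smul_smul]
          rw [Finset.sum_comm]
          exact Finset.sum_congr rfl fun i _ => Finset.sum_congr rfl fun j _ => by rw [mul_comm]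
      _ = act g (vec P c) := by
          conv_rhs => rw [hl, vec, map_sum]
          exact Finset.sum_congr rfl fun j _ => by rw [map_smul, hcol, hl]
  have hdet : A.det ≠ 0 := by
    intro e
    obtain ⟨c, hc, hc0⟩ := exists_mulVec_eq_zero_iff.mpr e
    refine (vec_pt p h.hK hc).1 (act_eq_zero (g := g) ?_)
    rw [← hA, hc0]; simp [vec]
  refine ⟨GeneralLinearGroup.mkOfDetNeZero A hdet, Equiv.ext fun x => ?_⟩
  refine (relFun_eq F p (M := GeneralLinearGroup.mkOfDetNeZero A hdet) (x := x)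
    (y := conjPerm F p n x) ?_).symm
  rcases (F.mem_pl_D p).mp x.2 with e | ⟨v, hv, hm, e⟩
  · refine Or.inl ⟨e, ?_⟩
    show n.1 * x.1 * n.1⁻¹ = d
    rw [e, ← (comm_of_mem hn).eq, mul_inv_cancel_right]
  · obtain ⟨c, hc⟩ := (Submodule.mem_span_range_iff_exists_fun K).mp hm
    refine Or.inr ⟨c, fun q => hv.1 (by rw [← hc, q]; simp), by rw [e, vec, hc], ?_⟩
    show n.1 * x.1 * n.1⁻¹ = F.m (vec P (A *ᵥ c))
    rw [hA, e, show vec P c = v from hc]
    exact F.conj_act hg.symm hv

include p in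
/-- a basis of the plane beginning with a given point -/
theorem exists_basis_at (hK : Fintype.card K = 4) {u : Vec K} (hu : IsPt u) (hm : u ∈ Submodule.span K (Set.range P)) :
    ∃ R S : Fin 3 → Vec K, Plane R S ∧ R 0 = u ∧
      Submodule.span K (Set.range R) = Submodule.span K (Set.range P) := by
  classical
  obtain ⟨c, hc⟩ := (Submodule.mem_span_range_iff_exists_fun K).mp hm
  obtain ⟨i, hi⟩ : ∃ i, c i ≠ 0 := by
    by_contra hcon
    push_neg at hcon
    exact hu.1 (by rw [← hc]; simp [hcon])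
  set R : Fin 3 → Vec K := Function.update P i u ∘ Equiv.swap 0 i
  have hR : Set.range R = Set.range (Function.update P i u) :=
    (Equiv.swap (0 : Fin 3) i).surjective.range_comp _
  have hspan : Submodule.span K (Set.range R) = Submodule.span K (Set.range P) := by
    rw [hR]
    apply le_antisymm <;> rw [Submodule.span_le]
    · rintro _ ⟨j, rfl⟩
      by_cases hj : j = i
      · subst hj; rw [Function.update_self]; exact hm
      · rw [Function.update_of_ne hj]; exact Submodule.subset_span ⟨j, rfl⟩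
    · rintro _ ⟨j, rfl⟩
      have hother : ∀ j, j ≠ i → P j ∈ Submodule.span K (Set.range (Function.update P i u)) :=
        fun j hj => Submodule.subset_span ⟨j, Function.update_of_ne hj u P⟩
      by_cases hj : j = i
      · subst hj
        have hs : c j • P j = u - ∑ k ∈ Finset.univ.erase j, c k • P k := by
          rw [← hc, ← Finset.add_sum_erase _ _ (Finset.mem_univ j), add_sub_cancel_right]
        rw [SetLike.mem_coe, ← inv_smul_smul₀ hi (P j), hs]
        refine Submodule.smul_mem _ _ (Submodule.sub_mem _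
          (Submodule.subset_span ⟨j, Function.update_self j u P⟩) (Submodule.sum_mem _ fun k hk => ?_))
        exact Submodule.smul_mem _ _ (hother k (Finset.ne_of_mem_erase hk))
      · exact hother j hj
  have hli : LinearIndependent K R := by
    rw [linearIndependent_iff_card_eq_finrank_span, Set.finrank, hspan, finrank_span_eq_card p.li]
  have hin : ∀ k, R k ∈ Submodule.span K (Set.range P) := fun k =>
    hspan ▸ Submodule.subset_span ⟨k, rfl⟩
  obtain ⟨S, r⟩ := exists_plane_of_li hK hli fun a b => p.hb_plane hK (hin a) (hin b)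
  exact ⟨R, S, r, by simp [R], hspan⟩

/-- the stabiliser of the centre permutes the other members transitively -/
theorem stab_trans {u v : Vec K} (hu : IsPt u) (hum : u ∈ Submodule.span K (Set.range P))
    (hv : IsPt v) (hvm : v ∈ Submodule.span K (Set.range P)) :
    ∃ n : ↥(Subgroup.normalizer (F.pl p : Set G)), (n : G) ∈ Cz d ∧
      (n : G) * F.m u * (n : G)⁻¹ = F.m v := by
  obtain ⟨R, S, r, r0, rs⟩ := exists_basis_at p h.hK hu hum
  obtain ⟨R', S', r', r0', rs'⟩ := exists_basis_at p h.hK hv hvm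
  obtain ⟨k, hk, hall⟩ := F.cls.move h.hK r r'
  have hin : ∀ x ∈ F.pl p, (k : G) * x * (k : G)⁻¹ ∈ F.pl p := by
    rintro _ ⟨y, hy, rfl⟩
    refine ⟨k * y * k⁻¹, ?_, rfl⟩
    have hle : prePlane h.hK F.π p ≤ (prePlane h.hK F.π p).comap (MulAut.conj k).toMonoidHom := by
      conv_lhs => rw [F.cls.prePlane_eq h.hK p]
      rw [Subgroup.closure_le]
      rintro _ (rfl | ⟨w, hw, hwm, rfl⟩)
      · show k * dc d * k⁻¹ ∈ prePlane h.hK F.π p
        rw [← (F.cls.ext.cen k).eq, mul_inv_cancel_right]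
        exact F.cls.d_mem h.hK p
      · obtain ⟨w', hw', hwp, e⟩ := hall w (rs.symm ▸ hwm) hw
        show k * F.Y w * k⁻¹ ∈ prePlane h.hK F.π p
        rw [e]
        exact F.cls.Y_mem h.hK p hwp (rs' ▸ hw')
    exact hle hy
  refine ⟨⟨(k : G), Subgroup.mem_normalizer_fintype hin⟩, k.2, ?_⟩
  have e := congrArg Subtype.val (hk 0)
  simp only [Subgroup.coe_mul, Subgroup.coe_inv, r0, r0'] at e
  calc (k : G) * F.m u * (k : G)⁻¹ = (k : G) * (F.Y u : G) * (d * (k : G)⁻¹) := by rw [Frame.m]; group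
    _ = (k : G) * (F.Y u : G) * (k : G)⁻¹ * d := by rw [(comm_of_mem (inv_mem k.2)).eq]; group
    _ = F.m v := by rw [e, Frame.m]

theorem card_mset : (mset d (F.pl p)).ncard = 22 := by
  have e : mset d (F.pl p) =
      Subtype.val '' (insert (dc d) (shift (dc d) (pts F.Y P))) := by
    rw [← F.fusion p]
    ext x
    constructor
    · rintro ⟨⟨y, hy, rfl⟩, hD⟩; exact ⟨y, ⟨hy, hD⟩, rfl⟩
    · rintro ⟨y, ⟨hy, hD⟩, rfl⟩; exact ⟨⟨y, hy, rfl⟩, hD⟩
  rw [e, Set.ncard_image_of_injective _ Subtype.val_injective,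
    Set.ncard_insert_of_notMem (fun q => (F.classes_disjoint p).1 _ (Or.inl q) rfl),
    PtClass.ncard_shift h.hK, F.cls.card_pts h.hK p]

/-- the normaliser acts by even permutations -/
theorem sign_eq_one [Fintype (Op F p)] [DecidableEq (Op F p)]
    (n : ↥(Subgroup.normalizer (F.pl p : Set G))) : Equiv.Perm.sign (conjPerm F p n) = 1 := by
  set s : ↥(Subgroup.normalizer (F.pl p : Set G)) →* ℤˣ := Equiv.Perm.sign.comp (conjPerm F p)
  show s n = 1
  let base : Op F p := ⟨d, F.d_pl p, mem_conjugatesOf_self⟩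
  have hfix : ∀ m : ↥(Subgroup.normalizer (F.pl p : Set G)), (m : G) * d * (m : G)⁻¹ = d → s m = 1 := by
    intro m e
    obtain ⟨M, hM⟩ := conjPerm_gl F p m (mem_cent (mul_inv_eq_iff_eq_mul.mp e).symm)
    show Equiv.Perm.sign (conjPerm F p m) = 1
    rw [hM]
    exact gl_no_sign h.hK (Equiv.Perm.sign.comp (glPerm F p)) M
  by_cases hn : (n : G) * d * (n : G)⁻¹ = d
  · exact hfix n hn
  have img : ∀ m : ↥(Subgroup.normalizer (F.pl p : Set G)), (m : G) * d * (m : G)⁻¹ ≠ d →
      ∃ v, IsPt v ∧ v ∈ Submodule.span K (Set.range P) ∧ (m : G) * d * (m : G)⁻¹ = F.m v :=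
    fun m hm => ((F.mem_pl_D p).mp (normalizer_mset m.2 base.2)).resolve_left hm
  have same : ∀ m m' : ↥(Subgroup.normalizer (F.pl p : Set G)), (m : G) * d * (m : G)⁻¹ ≠ d →
      (m' : G) * d * (m' : G)⁻¹ ≠ d → s m = s m' := by
    intro m m' hm hm'
    obtain ⟨u, hu, hum, eu⟩ := img m hm
    obtain ⟨v, hv, hvm, ev⟩ := img m' hm'
    obtain ⟨t, htC, ht⟩ := stab_trans F p hu hum hv hvm
    have h1 : s (m'⁻¹ * (t * m)) = 1 := hfix _ (by
      simp only [Subgroup.coe_mul, Subgroup.coe_inv]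
      calc (m' : G)⁻¹ * ((t : G) * (m : G)) * d * ((m' : G)⁻¹ * ((t : G) * (m : G)))⁻¹
          = (m' : G)⁻¹ * ((t : G) * ((m : G) * d * (m : G)⁻¹) * (t : G)⁻¹) * (m' : G) := by group
        _ = (m' : G)⁻¹ * ((m' : G) * d * (m' : G)⁻¹) * (m' : G) := by rw [eu, ht, ev]
        _ = d := by group)
    rw [map_mul, map_mul, map_inv, hfix t (by
      rw [← (comm_of_mem htC).eq, mul_inv_cancel_right]), one_mul] at h1
    exact (inv_mul_eq_one.mp h1).symm
  -- two further elements moving the centre to different members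
  obtain ⟨x, hx1, hx2⟩ : ∃ x ∈ mset d (F.pl p), x ≠ d ∧ x ≠ (n : G) * d * (n : G)⁻¹ := by
    by_contra hcon
    have hsub : mset d (F.pl p) ⊆ {d, (n : G) * d * (n : G)⁻¹} := by
      intro x hx
      by_contra hx'
      simp only [Set.mem_insert_iff, Set.mem_singleton_iff, not_or] at hx'
      exact hcon ⟨x, hx, hx'.1, hx'.2⟩
    have := (Set.ncard_le_ncard hsub).trans ((Set.ncard_insert_le _ _).trans (by simp : _ ≤ 2))
    rw [card_mset] at this
    omega
  obtain ⟨m, hmN, hm⟩ := F.norm_trans p hx1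
  have hm' : ((⟨m, hmN⟩ : ↥(Subgroup.normalizer (F.pl p : Set G))) : G) * d * m⁻¹ ≠ d := by
    rw [hm]; exact hx2.1
  have hprod : ((n⁻¹ * ⟨m, hmN⟩ : ↥(Subgroup.normalizer (F.pl p : Set G))) : G) * d *
      ((n⁻¹ * ⟨m, hmN⟩ : ↥(Subgroup.normalizer (F.pl p : Set G))) : G)⁻¹ ≠ d := by
    simp only [Subgroup.coe_mul, Subgroup.coe_inv]
    intro e
    apply hx2.2
    calc x = m * d * m⁻¹ := hm.symm
      _ = (n : G) * ((n : G)⁻¹ * m * d * ((n : G)⁻¹ * m)⁻¹) * (n : G)⁻¹ := by group
      _ = (n : G) * d * (n : G)⁻¹ := by rw [e]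
  have e1 := same _ _ hprod hm'
  rw [map_mul] at e1
  have e2 : (s n)⁻¹ = 1 := mul_right_cancel (b := s ⟨m, hmN⟩) (by rw [one_mul, ← map_inv]; exact e1)
  exact inv_eq_one.mp e2

/-- an involution of the normaliser fixes one of the members -/
theorem Frame.fixes_member {x : G} (hx : x ∈ Subgroup.normalizer (F.pl p : Set G)) (hx2 : x * x = 1) :
    ∃ f ∈ mset d (F.pl p), Commute x f := by
  classical
  haveI : Fintype (Op F p) := Fintype.ofFinite _
  by_contra hcon
  push_neg at hcon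
  set σ := conjPerm F p ⟨x, hx⟩ with hσdef
  have hσ : σ ^ 2 = 1 := by
    rw [hσdef, ← map_pow, show (⟨x, hx⟩ : ↥(Subgroup.normalizer (F.pl p : Set G))) ^ 2 = 1 from
      Subtype.ext (by rw [SubmonoidClass.coe_pow, pow_two]; exact hx2), map_one]
  have hsupp : σ.support = Finset.univ := by
    ext y
    simp only [Equiv.Perm.mem_support, Finset.mem_univ, iff_true]
    intro e
    exact hcon y.1 y.2 (mul_inv_eq_iff_eq_mul.mp (congrArg Subtype.val e))
  haveI : Fact (Nat.Prime 2) := ⟨Nat.prime_two⟩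
  have hct := Equiv.Perm.cycleType_of_pow_prime_eq_one hσ
  have hsum := σ.sum_cycleType
  rw [hsupp, Finset.card_univ, ← Nat.card_eq_fintype_card, Nat.card_coe_set_eq, card_mset] at hsum
  have hs := sign_eq_one F p ⟨x, hx⟩
  rw [← hσdef, Equiv.Perm.sign_of_cycleType, hsum] at hs
  rw [hct, Multiset.sum_replicate, smul_eq_mul] at hsum
  have h11 : Multiset.card σ.cycleType = 11 := by omega
  rw [h11] at hs
  exact absurd hs (by decide)

end Cfsg.Agent.H47.TwoU62
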