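import Cfsg.Agent.H93.U6Rank
import Cfsg.Agent.H93.Members
import Cfsg.Agent.H93.Pair23
import Cfsg.Agent.H93.U6Twist

/-!
An involution whose centraliser is a perfect two-fold extension of `PSU 6 F 2` and which commutes
with a second member of its class: the hypothesis, its transport along the class, and the members
attached to transvections.
-/

set_option autoImplicit false

namespace Cfsg.Agent.H47.TwoU62

open Cfsg.Agent.H93

variable {G : Type*} [Group G] {K : Type*} [Field K] [Fintype K]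

/-- the centraliser of an element -/
abbrev Cz (d : G) : Subgroup G := Subgroup.centralizer ({d} : Set G)

/-- an element inside its centraliser -/
abbrev dc (d : G) : ↥(Cz d) := ⟨d, mem_cent (Commute.refl d)⟩

theorem comm_of_mem {d x : G} (h : x ∈ Cz d) : Commute d x :=
  (Subgroup.mem_centralizer_singleton_iff.mp h).symm

/-- centralisers of conjugate elements -/
def czEquiv (g d : G) : ↥(Cz (g * d * g⁻¹)) ≃* ↥(Cz d) where
  toFun x := ⟨g⁻¹ * x.1 * g, mem_cent (by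
    have := (comm_of_mem x.2).map (MulAut.conj g⁻¹).toMonoidHom
    simpa [MulAut.conj_apply, mul_assoc] using this)⟩
  invFun x := ⟨g * x.1 * g⁻¹, mem_cent (commute_conj.mpr (comm_of_mem x.2))⟩
  left_inv x := Subtype.ext (by simp [mul_assoc])
  right_inv x := Subtype.ext (by simp [mul_assoc])
  map_mul' x y := Subtype.ext (by simp [mul_assoc])

/-- the hypothesis on a transposition -/
structure Hyp (K : Type*) [Field K] [Fintype K] (d : G) : Prop where
  hK : Fintype.card K = 4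
  d1 : d ≠ 1
  ext : ∃ π : ↥(Cz d) →* Cfsg.PSU 6 K 2, TwoExt π (dc d)
  perf : commutator ↥(Cz d) = ⊤
  two : ∃ g : G, Commute d (g * d * g⁻¹) ∧ g * d * g⁻¹ ≠ d

theorem Hyp.conj {d : G} (h : Hyp K d) (g : G) : Hyp K (g * d * g⁻¹) where
  hK := h.hK
  d1 e := h.d1 (by simpa [mul_assoc] using congrArg (fun x => g⁻¹ * x * g) e)
  ext := by
    obtain ⟨π, he⟩ := h.ext
    let e := czEquiv g d
    have ed : e (dc (g * d * g⁻¹)) = dc d := Subtype.ext (by simp [e, czEquiv, mul_assoc])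
    refine ⟨π.comp e.toMonoidHom, he.surj.comp e.surjective, fun x hx => ?_, ?_, fun x => ?_⟩
    · rcases he.ker (e x) hx with q | q
      · exact Or.inl (e.injective (q.trans (map_one e).symm))
      · exact Or.inr (e.injective (q.trans ed.symm))
    · apply e.injective
      rw [map_mul, ed, he.sq, map_one]
    · apply e.injective
      rw [map_mul, map_mul, ed]
      exact he.cen _
  perf := by
    let e := (czEquiv g d).symm
    have := congrArg (Subgroup.map e.toMonoidHom) h.perf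
    rw [commutator_def, Subgroup.map_commutator, Subgroup.map_top_of_surjective _ e.surjective] at this
    rwa [commutator_def]
  two := by
    obtain ⟨k, hc, hne⟩ := h.two
    refine ⟨g * k * g⁻¹, ?_, fun e => hne ?_⟩
    · rw [show g * k * g⁻¹ * (g * d * g⁻¹) * (g * k * g⁻¹)⁻¹ = g * (k * d * k⁻¹) * g⁻¹ by group]
      exact commute_conj.mpr hc
    · rw [show g * k * g⁻¹ * (g * d * g⁻¹) * (g * k * g⁻¹)⁻¹ = g * (k * d * k⁻¹) * g⁻¹ by group] at e
      exact mul_left_cancel (mul_right_cancel e)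

theorem Hyp.of_mem {d a : G} (h : Hyp K d) (ha : a ∈ conjugatesOf d) :
    Hyp K a ∧ conjugatesOf a = conjugatesOf d := by
  obtain ⟨g, rfl⟩ := isConj_iff.mp ha
  exact ⟨h.conj g, (IsConj.conjugatesOf_eq ha).symm⟩

theorem mem_D_conj {d x : G} (g : G) (hx : x ∈ conjugatesOf d) : g * x * g⁻¹ ∈ conjugatesOf d :=
  IsConj.trans hx (isConj_iff.mpr ⟨g, rfl⟩)

theorem mem_D_iff {d x : G} (g : G) : g * x * g⁻¹ ∈ conjugatesOf d ↔ x ∈ conjugatesOf d :=
  ⟨fun h => by simpa [mul_assoc] using mem_D_conj g⁻¹ h, mem_D_conj g⟩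

/-- coordinates at a transposition -/
structure Frame {d : G} (h : Hyp K d) where
  π : ↥(Cz d) →* Cfsg.PSU 6 K 2
  Y : Vec K → ↥(Cz d)
  cls : PtClass h.hK π (dc d) Y

variable {d : G} {h : Hyp K d}

theorem Hyp.frame (h : Hyp K d) : Nonempty (Frame h) := by
  obtain ⟨π, he⟩ := h.ext
  obtain ⟨Y, hY⟩ := he.exists_ptClass h.hK fun e => h.d1 (congrArg Subtype.val e)
  exact ⟨⟨π, Y, hY⟩⟩

theorem Hyp.dd (h : Hyp K d) : d * d = 1 := by
  obtain ⟨π, he⟩ := h.ext
  exact congrArg Subtype.val he.sq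

theorem sq_of_conj {d x : G} (hd : d * d = 1) (hx : x ∈ conjugatesOf d) : x * x = 1 := by
  obtain ⟨g, rfl⟩ := isConj_iff.mp hx
  rw [show g * d * g⁻¹ * (g * d * g⁻¹) = g * (d * d) * g⁻¹ by group, hd, mul_one, mul_inv_cancel]

/-- a transposition is not a square -/
theorem Hyp.not_square (h : Hyp K d) {x : G} (hx : x ∈ conjugatesOf d) (y : G) : y * y ≠ x := by
  obtain ⟨g, rfl⟩ := isConj_iff.mp hx
  intro e
  set z := g⁻¹ * y * g with hz
  have ez : z * z = d := by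
    rw [hz, show g⁻¹ * y * g * (g⁻¹ * y * g) = g⁻¹ * (y * y) * g by group, e]; group
  have hzC : z ∈ Cz d := mem_cent (by rw [← ez]; exact ((Commute.refl z).mul_left (Commute.refl z)))
  obtain ⟨π, he⟩ := h.ext
  have hπ : π (⟨z, hzC⟩ * ⟨z, hzC⟩) = 1 := by
    rw [show (⟨z, hzC⟩ * ⟨z, hzC⟩ : ↥(Cz d)) = dc d from Subtype.ext ez, he.π_d h.hK]
  rw [map_mul] at hπ
  obtain ⟨w, hw, hw2⟩ := he.invol h.hK hπ
  exact h.d1 (ez.symm.trans (congrArg Subtype.val (he.sq_congr hw hw2)))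

/-- the member attached to a transvection -/
def Frame.m (F : Frame h) (v : Vec K) : G := (F.Y v : G) * d

/-- the plane subgroup inside the ambient group -/
noncomputable def Frame.pl (F : Frame h) {P Q : Fin 3 → Vec K} (p : Plane P Q) : Subgroup G :=
  (prePlane h.hK F.π p).map (Cz d).subtype

variable (F : Frame h)

theorem Frame.mem_cz (v : Vec K) : F.m v ∈ Cz d :=
  mul_mem (F.Y v).2 (dc d).2

theorem Frame.comm_d (v : Vec K) : Commute d (F.m v) := comm_of_mem (F.mem_cz v)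

theorem Frame.Y_eq (v : Vec K) : (F.Y v : G) = F.m v * d := by
  rw [Frame.m, mul_assoc, h.dd, mul_one]

theorem Frame.coe_m (v : Vec K) : (⟨F.m v, F.mem_cz v⟩ : ↥(Cz d)) = F.Y v * dc d := rfl

theorem Frame.π_m {v : Vec K} (hv : IsPt v) : F.π ⟨F.m v, F.mem_cz v⟩ = ptv h.hK v := by
  rw [F.coe_m, map_mul, F.cls.ext.π_d h.hK, mul_one, F.cls.img v hv]

theorem Frame.conj_m {c : ↥(Cz d)} {u v : Vec K} (hu : IsPt u) (hv : IsPt v)
    (e : F.π c * ptv h.hK u * (F.π c)⁻¹ = ptv h.hK v) : (c : G) * F.m u * (c : G)⁻¹ = F.m v := by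
  have h1 := congrArg Subtype.val (F.cls.conj c u v hu hv e)
  simp only [Subgroup.coe_mul, Subgroup.coe_inv] at h1
  calc (c : G) * F.m u * (c : G)⁻¹ = (c : G) * (F.Y u : G) * (d * (c : G)⁻¹) := by rw [Frame.m]; group
    _ = (c : G) * (F.Y u : G) * (c : G)⁻¹ * d := by rw [(comm_of_mem (inv_mem c.2)).eq]; group
    _ = F.m v := by rw [h1, Frame.m]

theorem Frame.conj_act {c : ↥(Cz d)} {g : ↥(Cfsg.SU 6 K 2)} (e : F.π c = QuotientGroup.mk g)
    {u : Vec K} (hu : IsPt u) : (c : G) * F.m u * (c : G)⁻¹ = F.m (act g u) :=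
  F.conj_m hu (act_pt g hu) (by rw [e, ptv_conj])

theorem Frame.trans {u v : Vec K} (hu : IsPt u) (hv : IsPt v) :
    ∃ c : ↥(Cz d), (c : G) * F.m u * (c : G)⁻¹ = F.m v := by
  obtain ⟨g, hg⟩ := ptv_transitive h.hK hu hv
  obtain ⟨c, rfl⟩ := F.cls.ext.surj g
  exact ⟨c, F.conj_m hu hv hg⟩

theorem Frame.m_sq {u : Vec K} (hu : IsPt u) : F.m u * F.m u = 1 := by
  have h1 := congrArg Subtype.val (F.cls.sq h.hK hu)
  simp only [Subgroup.coe_mul, Subgroup.coe_one] at h1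
  calc F.m u * F.m u = (F.Y u : G) * (d * (F.Y u : G)) * d := by rw [Frame.m]; group
    _ = (F.Y u : G) * ((F.Y u : G) * d) * d := by rw [(comm_of_mem (F.Y u).2).eq]
    _ = ((F.Y u : G) * (F.Y u : G)) * (d * d) := by group
    _ = 1 := by rw [h1, h.dd, one_mul]

theorem Frame.m_ne {u : Vec K} (hu : IsPt u) : F.m u ≠ d ∧ F.m u ≠ 1 := by
  constructor <;> intro e <;> have h1 := F.π_m hu
  · rw [show (⟨F.m u, F.mem_cz u⟩ : ↥(Cz d)) = dc d from Subtype.ext e, F.cls.ext.π_d h.hK] at h1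
    exact ptv_ne_one h.hK hu h1.symm
  · rw [show (⟨F.m u, F.mem_cz u⟩ : ↥(Cz d)) = 1 from Subtype.ext e, map_one] at h1
    exact ptv_ne_one h.hK hu h1.symm

theorem Frame.m_comm {u v : Vec K} (hu : IsPt u) (hv : IsPt v) :
    Commute (F.m u) (F.m v) ↔ hb u v = 0 :=
  member_comm h.hK F.cls.ext (F.mem_cz u) (F.mem_cz v) hu hv (F.π_m hu) (F.π_m hv)

theorem Frame.m_eq {u v : Vec K} (hu : IsPt u) (hv : IsPt v) : F.m u = F.m v ↔ SamePt u v := by
  constructor
  · intro e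
    have h1 := F.π_m hu
    rw [show (⟨F.m u, F.mem_cz u⟩ : ↥(Cz d)) = ⟨F.m v, F.mem_cz v⟩ from Subtype.ext e, F.π_m hv] at h1
    exact ptv_eq h.hK hv hu.2 h1
  · rintro ⟨a, rfl⟩
    have ha : a ≠ 0 := fun q => hv.1 (by rw [q, zero_smul])
    rw [Frame.m, Frame.m, F.cls.smul h.hK hu ha]

theorem Frame.third {u v : Vec K} (hu : IsPt u) (hv : IsPt v) :
    F.m u * F.m v * F.m u = F.m (v + hb v u • u) := by
  have := F.conj_m (c := ⟨F.m u, F.mem_cz u⟩) hv (isPt_third h.hK hu hv) (by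
    rw [F.π_m hu, inv_eq_of_mul_eq_one_left (ptv_mul_self h.hK u), ptv_conj' h.hK hu.2])
  simpa [inv_eq_of_mul_eq_one_left (F.m_sq hu)] using this

theorem Frame.mem_pl {P Q : Fin 3 → Vec K} (p : Plane P Q) {x : G} :
    x ∈ F.pl p ↔ ∃ hx : x ∈ Cz d, (⟨x, hx⟩ : ↥(Cz d)) ∈ prePlane h.hK F.π p := by
  constructor
  · rintro ⟨y, hy, rfl⟩; exact ⟨y.2, hy⟩
  · rintro ⟨hx, hy⟩; exact ⟨_, hy, rfl⟩

theorem Frame.pl_le {P Q : Fin 3 → Vec K} (p : Plane P Q) : F.pl p ≤ Cz d := Subgroup.map_subtype_le _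

theorem Frame.pl_elem {P Q : Fin 3 → Vec K} (p : Plane P Q) :
    (∀ x ∈ F.pl p, ∀ y ∈ F.pl p, Commute x y) ∧ (∀ x ∈ F.pl p, x * x = 1) ∧
      Nat.card (F.pl p) = 1024 := by
  obtain ⟨h1, h2⟩ := F.cls.prePlane_elem h.hK p
  refine ⟨?_, ?_, ?_⟩
  · rintro _ ⟨x, hx, rfl⟩ _ ⟨y, hy, rfl⟩; exact (h1 x hx y hy).map _
  · rintro _ ⟨x, hx, rfl⟩; rw [← map_mul, h2 x hx, map_one]
  · rw [Frame.pl, ← Nat.card_congr ((prePlane h.hK F.π p).equivMapOfInjective _
      (Subgroup.subtype_injective _)).toEquiv, F.cls.card_prePlane h.hK p]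

theorem Frame.d_pl {P Q : Fin 3 → Vec K} (p : Plane P Q) : d ∈ F.pl p :=
  ⟨_, F.cls.d_mem h.hK p, rfl⟩

theorem Frame.m_pl {P Q : Fin 3 → Vec K} (p : Plane P Q) {v : Vec K} (hv : IsPt v)
    (hm : v ∈ Submodule.span K (Set.range P)) : F.m v ∈ F.pl p :=
  ⟨_, mul_mem (F.cls.Y_mem h.hK p hv hm) (F.cls.d_mem h.hK p), rfl⟩

end Cfsg.Agent.H47.TwoU62
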